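import Groth.Agent.TrFlatLib.Local

/-!
# The trace of a finite flat morphism
-/

set_option autoImplicit false
set_option linter.all false
set_option backward.isDefEq.respectTransparency false
set_option backward.isDefEq.respectTransparency.types false
set_option maxHeartbeats 4000000
set_option synthInstance.maxHeartbeats 400000

universe u

open CategoryTheory CategoryTheory.Limits AlgebraicGeometry Opposite TopologicalSpace
open Groth.Agent Groth.Agent.EtShLib

noncomputable section

namespace TrFlatLib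

variable {X S : Scheme.{u}}

/-- Geometric points with algebraically closed fields detect equality of sections. -/
theorem eq_of_germ_algClosed (G : EtCoh.Ab S) {U : S.Etale} (s t : G.obj.obj (op U))
    (h : ∀ (Ω : Type u) [Field Ω] [IsSepClosed Ω] [IsAlgClosed Ω] (η : Spec (CommRingCat.of Ω) ⟶ S) (v : Fib η U),
      germ (A := AddCommGrpCat.{u + 1}) η G U v s = germ (A := AddCommGrpCat.{u + 1}) η G U v t) : s = t :=
  res_ext (A := AddCommGrpCat.{u + 1}) G s t fun y => by
    obtain ⟨K, _, _, ζ, z, hz⟩ := exists_geometric (U := U) y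
    let A := AlgebraicClosure K
    let e : Spec (CommRingCat.of A) ⟶ Spec (CommRingCat.of K) := Spec.map (CommRingCat.ofHom (algebraMap K A))
    let v : Fib (e ≫ ζ) U := Fib.mk (e ≫ z.hom) ((Category.assoc _ _ _).trans (congrArg (e ≫ ·) z.w))
    obtain ⟨V, g, w, hw, he⟩ := (germ_eq_iff (A := AddCommGrpCat.{u + 1}) (e ≫ ζ) U v s t).1 (h A (e ≫ ζ) v)
    refine ⟨V, g, ⟨w.pt, ?_⟩, he⟩
    have h1 : g.left.base w.pt = v.pt := congrArg (fun r : Fib (e ≫ ζ) U => r.pt) hw
    rw [h1, ← hz]
    show (e ≫ z.hom).base default = z.hom.base default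
    rw [Scheme.Hom.comp_apply]
    exact congrArg z.hom.base (Subsingleton.elim _ _)

variable (f : X ⟶ S) [IsFinite f] (F : EtCoh.Ab S)

theorem isTrSec_unique {U : S.Etale} {s : ((EtCoh.pull f).obj F).obj.obj (op ((EtCoh.bc f).obj U))}
    {t t' : F.obj.obj (op U)} (h : IsTrSec f F U s t) (h' : IsTrSec f F U s t') : t = t' :=
  eq_of_germ_algClosed F t t' fun Ω _ _ _ η v => (h Ω η v).trans (h' Ω η v).symm

theorem isTrSec_res {U V : S.Etale} (g : V ⟶ U) {s : ((EtCoh.pull f).obj F).obj.obj (op ((EtCoh.bc f).obj U))}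
    {t : F.obj.obj (op U)} (h : IsTrSec f F U s t) :
    IsTrSec f F V (((EtCoh.pull f).obj F).obj.map ((EtCoh.bc f).map g).op s) (F.obj.map g.op t) :=
  fun Ω _ _ _ η v => by
    rw [germ_res_apply, h]
    refine congrArg _ ?_
    exact (germ_res_apply (A := AddCommGrpCat.{u + 1}) η ((EtCoh.push f).obj ((EtCoh.pull f).obj F)) g v s).symm

variable [Flat f] [LocallyOfFinitePresentation f]

theorem exists_isTrSec (U : S.Etale) (s : ((EtCoh.pull f).obj F).obj.obj (op ((EtCoh.bc f).obj U))) :
    ∃ t, IsTrSec f F U s t := by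
  choose W g t hy ht using exists_local f F U s
  have hmem : Sieve.ofArrows W g ∈ S.smallEtaleTopology U := by
    rw [Scheme.ofArrows_mem_smallEtaleTopology_iff]
    exact Set.eq_univ_of_forall fun y => Set.mem_iUnion.2 ⟨y, hy y⟩
  have hsh : (Presieve.ofArrows W g).IsSheafFor (F.obj ⋙ forget AddCommGrpCat.{u + 1}) := by
    rw [Presieve.isSheafFor_iff_generate]
    exact ((isSheaf_iff_isSheaf_of_type _ _).1
      (GrothendieckTopology.HasSheafCompose.isSheaf F.obj F.property)) _ hmem
  obtain ⟨T, hT, -⟩ := (Presieve.isSheafFor_arrows_iff _ _).1 hsh t fun a b Z p q h => by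
    refine isTrSec_unique f F (s := ((EtCoh.pull f).obj F).obj.map ((EtCoh.bc f).map (p ≫ g a)).op s) ?_ ?_
    · have h1 := isTrSec_res f F p (ht a)
      rwa [← ConcreteCategory.comp_apply, ← Functor.map_comp, ← op_comp, ← Functor.map_comp] at h1
    · have h1 := isTrSec_res f F q (ht b)
      rwa [← ConcreteCategory.comp_apply, ← Functor.map_comp, ← op_comp, ← Functor.map_comp, ← h] at h1
  refine ⟨T, fun Ω _ _ _ η z => ?_⟩
  obtain ⟨y, hy'⟩ : ∃ y, z.pt ∈ Set.range (g y).left.base := ⟨_, hy z.pt⟩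
  haveI := etale_left (g y)
  obtain ⟨w₀, hw₀⟩ := hy'
  obtain ⟨l, hl, -⟩ := Scheme.exists_fac_of_etale_of_isSepClosed (g y).left z.hom w₀ hw₀
  let w : Fib η (W y) := Fib.mk l (by
    rw [← MorphismProperty.Over.w (g y), ← Category.assoc, hl]
    exact z.w)
  have hw : w.map (g y) = z := Fib.ext hl
  rw [← hw, ← germ_res_apply, show F.obj.map (g y).op T = t y from hT y, ht y Ω η w]
  exact congrArg _ (germ_res_apply (A := AddCommGrpCat.{u + 1}) η ((EtCoh.push f).obj ((EtCoh.pull f).obj F)) (g y) w s)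

/-- The trace of a section. -/
def trFun (U : S.Etale) (s : ((EtCoh.pull f).obj F).obj.obj (op ((EtCoh.bc f).obj U))) : F.obj.obj (op U) :=
  (exists_isTrSec f F U s).choose

theorem isTrSec_trFun (U : S.Etale) (s : ((EtCoh.pull f).obj F).obj.obj (op ((EtCoh.bc f).obj U))) :
    IsTrSec f F U s (trFun f F U s) :=
  (exists_isTrSec f F U s).choose_spec

/-- The trace for one sheaf. -/
def trApp : (EtCoh.push f).obj ((EtCoh.pull f).obj F) ⟶ F :=
  ObjectProperty.homMk
    { app := fun U => AddCommGrpCat.ofHom (AddMonoidHom.mk' (trFun f F U.unop) fun a b =>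
        isTrSec_unique f F (isTrSec_trFun f F U.unop (a + b)) fun Ω _ _ _ η v => by
          rw [map_add, isTrSec_trFun f F U.unop a Ω η v, isTrSec_trFun f F U.unop b Ω η v, ← map_add]
          exact congrArg _ (map_add (germ (A := AddCommGrpCat.{u + 1}) η ((EtCoh.push f).obj ((EtCoh.pull f).obj F)) U.unop v).hom a b).symm)
      naturality := fun U V g => by
        refine AddCommGrpCat.ext fun s => ?_
        exact isTrSec_unique f F (isTrSec_trFun f F V.unop _) (isTrSec_res f F g.unop (isTrSec_trFun f F U.unop s)) }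

theorem stk_trApp {Ω : Type u} [Field Ω] [IsSepClosed Ω] [IsAlgClosed Ω] (η : Spec (CommRingCat.of Ω) ⟶ S) :
    (stk (A := AddCommGrpCat.{u + 1}) η).map (trApp f F) = trS f η F := by
  refine AddCommGrpCat.ext fun p => ?_
  obtain ⟨U, v, s, rfl⟩ := exists_germ (A := AddCommGrpCat.{u + 1}) η p
  refine (germ_natural_apply (A := AddCommGrpCat.{u + 1}) η (trApp f F) U v s).trans ?_
  exact isTrSec_trFun f F U s Ω η v

theorem hom_ext_stk {G G' : EtCoh.Ab S} (a b : G ⟶ G')
    (h : ∀ (Ω : Type u) [Field Ω] [IsSepClosed Ω] [IsAlgClosed Ω] (η : Spec (CommRingCat.of Ω) ⟶ S),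
      (stk (A := AddCommGrpCat.{u + 1}) η).map a = (stk (A := AddCommGrpCat.{u + 1}) η).map b) : a = b := by
  refine Sheaf.hom_ext (NatTrans.ext (funext fun U => AddCommGrpCat.ext fun s => ?_))
  refine eq_of_germ_algClosed G' _ _ fun Ω _ _ _ η v => ?_
  rw [← germ_natural_apply, ← germ_natural_apply, h Ω η]

theorem trS_natural {G : EtCoh.Ab S} (φ : F ⟶ G) {Ω : Type u} [Field Ω] [IsSepClosed Ω] [IsAlgClosed Ω]
    (η : Spec (CommRingCat.of Ω) ⟶ S) :
    (stk (A := AddCommGrpCat.{u + 1}) η).map ((EtCoh.push f).map ((EtCoh.pull f).map φ)) ≫ trS f η G =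
      trS f η F ≫ (stk (A := AddCommGrpCat.{u + 1}) η).map φ := by
  refine AddCommGrpCat.ext fun p => ?_
  obtain ⟨U, v, s, rfl⟩ := exists_germ (A := AddCommGrpCat.{u + 1}) η p
  haveI := finite_lifts' f η
  letI := Fintype.ofFinite (Lifts f η)
  rw [ConcreteCategory.comp_apply, ConcreteCategory.comp_apply, germ_natural_apply, trS_germ, trS_germ, map_sum]
  refine Finset.sum_congr rfl fun u _ => ?_
  rw [map_nsmul, ← back_natural, germ_natural_apply]
  rfl

/-- The trace transformation. -/
def Tr : EtCoh.pull f ⋙ EtCoh.push f ⟶ 𝟭 (EtCoh.Ab S) where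
  app F := trApp f F
  naturality F G φ := by
    refine hom_ext_stk _ _ fun Ω _ _ _ η => ?_
    show (stk (A := AddCommGrpCat.{u + 1}) η).map ((EtCoh.push f).map ((EtCoh.pull f).map φ) ≫ trApp f G) =
      (stk (A := AddCommGrpCat.{u + 1}) η).map (trApp f F ≫ φ)
    rw [Functor.map_comp, Functor.map_comp, stk_trApp, stk_trApp, trS_natural]

omit [Flat f] [LocallyOfFinitePresentation f] in
theorem finrank_eq_rk_top {Ω : Type u} [Field Ω] {Z : Scheme.{u}} (h : Z ⟶ Spec (CommRingCat.of Ω)) [IsFinite h] :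
    h.finrank default = rk h ⊤ := by
  haveI : IsIntegral (Spec (CommRingCat.of Ω)) := inferInstance
  haveI : IsIso (⊤ : Z.Opens).ι := Z.topIso.isIso_hom
  haveI : IsFinite ((⊤ : Z.Opens).ι ≫ h) := inferInstance
  rw [← finrank_ι h ⊤, Scheme.Hom.finrank_comp_left_of_isIso]

theorem sum_mu {Ω : Type u} [Field Ω] [IsSepClosed Ω] [IsAlgClosed Ω] (η : Spec (CommRingCat.of Ω) ⟶ S)
    [Fintype (Lifts f η)] : ∑ u : Lifts f η, mu f η u = f.finrank (η.base default) := by
  classical
  haveI : IsFinite (pullback.snd f η) := MorphismProperty.pullback_snd _ _ inferInstance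
  haveI : Finite (pullback f η : Scheme.{u}) := finite_space (pullback.snd f η)
  letI := Fintype.ofFinite (pullback f η : Scheme.{u})
  rw [← Scheme.Hom.finrank_pullback_snd, finrank_eq_rk_top, rk_eq_sum]
  refine ((bijective_ptOf f η).sum_comp (fun p => mult (pullback.snd f η) p)).trans ?_
  exact Finset.sum_congr (Finset.ext fun p => by simp) fun p _ => rfl

theorem unit_comp_Tr (n : ℕ) (hn : ∀ s : S, f.finrank s = n) :
    (EtCoh.pullPushAdj f).unit.app F ≫ (Tr f).app F = n • 𝟙 F := by
  refine hom_ext_stk _ _ fun Ω _ _ _ η => ?_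
  refine AddCommGrpCat.ext fun p => ?_
  obtain ⟨U, v, x, rfl⟩ := exists_germ (A := AddCommGrpCat.{u + 1}) η p
  haveI := finite_lifts' f η
  letI := Fintype.ofFinite (Lifts f η)
  rw [Functor.map_comp, ConcreteCategory.comp_apply, germ_natural_apply]
  show (stk (A := AddCommGrpCat.{u + 1}) η).map (trApp f F) _ = _
  rw [stk_trApp]
  refine (trS_germ f η F U v _).trans ?_
  rw [Functor.map_nsmul]
  erw [CategoryTheory.Functor.map_id]
  show _ = n • germ (A := AddCommGrpCat.{u + 1}) η F U v x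
  rw [← hn (η.base default), ← sum_mu, Finset.sum_smul]
  exact Finset.sum_congr rfl fun u _ => congrArg _ (back_germ f η F u U v x)

end TrFlatLib

end
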