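import Groth.Agent.TrFlatLib.Comp

/-!
# Uniqueness of the trace
-/

set_option autoImplicit false
set_option linter.all false
set_option backward.isDefEq.respectTransparency false
set_option backward.isDefEq.respectTransparency.types false
set_option maxHeartbeats 4000000
set_option synthInstance.maxHeartbeats 400000
set_option maxRecDepth 4000

universe u

open CategoryTheory CategoryTheory.Limits AlgebraicGeometry Opposite TopologicalSpace
open Groth.Agent Groth.Agent.EtShLib DescSecLib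

noncomputable section

namespace TrFlatLib

/-- A family of traces. -/
abbrev Fam : Type _ := ∀ ⦃X S : Scheme.{u}⦄ (f : X ⟶ S) [IsFinite f] [Flat f] [LocallyOfFinitePresentation f],
  EtCoh.pull f ⋙ EtCoh.push f ⟶ 𝟭 (EtCoh.Ab S)

/-- Compatibility with base change. -/
structure Ax2 (T : Fam.{u}) : Prop where
  eq : ∀ ⦃X S X' S' : Scheme.{u}⦄ (f : X ⟶ S) (g : S' ⟶ S) (f' : X' ⟶ S') (g' : X' ⟶ X)
      (hc : IsPullback g' f' f g)
      [IsFinite f] [Flat f] [LocallyOfFinitePresentation f]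
      [IsFinite f'] [Flat f'] [LocallyOfFinitePresentation f'] (F : EtCoh.Ab S),
    EtCoh.baseChange0 f g f' g' hc.w ((EtCoh.pull f).obj F) ≫
      (EtCoh.push f').map ((EtCore.pullComp g' f).inv.app F ≫ (EtCore.pullCongr hc.w).hom.app F ≫
        (EtCore.pullComp f' g).hom.app F) ≫ (T f').app ((EtCoh.pull g).obj F) =
      (EtCoh.pull g).map ((T f).app F)

/-- Compatibility with composition. -/
structure Ax3 (T : Fam.{u}) : Prop where
  eq : ∀ ⦃X Y S : Scheme.{u}⦄ (h : X ⟶ Y) (g : Y ⟶ S)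
      [IsFinite h] [Flat h] [LocallyOfFinitePresentation h]
      [IsFinite g] [Flat g] [LocallyOfFinitePresentation g]
      [IsFinite (h ≫ g)] [Flat (h ≫ g)] [LocallyOfFinitePresentation (h ≫ g)] (F : EtCoh.Ab S),
    (T (h ≫ g)).app F =
      (EtCoh.push (h ≫ g)).map ((EtCore.pullComp h g).hom.app F) ≫
        (EtCoh.pushComp g h).inv.app ((EtCoh.pull h).obj ((EtCoh.pull g).obj F)) ≫
        (EtCoh.push g).map ((T h).app ((EtCoh.pull g).obj F)) ≫ (T g).app F

/-- The degree formula. -/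
structure Ax4 (T : Fam.{u}) : Prop where
  eq : ∀ ⦃X S : Scheme.{u}⦄ (f : X ⟶ S) [IsFinite f] [Flat f] [LocallyOfFinitePresentation f] (n : ℕ)
      (hn : ∀ s : S, f.finrank s = n) (F : EtCoh.Ab S),
    (EtCoh.pullPushAdj f).unit.app F ≫ (T f).app F = n • 𝟙 F

section Point

variable {Ω : Type u} [Field Ω] [IsSepClosed Ω] [IsAlgClosed Ω]

/-- The tautological point. -/
abbrev pt (Ω : Type u) [Field Ω] : Spec (CommRingCat.of Ω) ⟶ Spec (CommRingCat.of Ω) := 𝟙 _

theorem hom_ext_point {G G' : EtCoh.Ab (Spec (CommRingCat.of Ω))} (a b : G ⟶ G')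
    (h : (stk (A := AddCommGrpCat.{u + 1}) (pt Ω)).map a = (stk (A := AddCommGrpCat.{u + 1}) (pt Ω)).map b) : a = b := by
  refine Sheaf.hom_ext (NatTrans.ext (funext fun U => AddCommGrpCat.ext fun s => ?_))
  obtain ⟨U⟩ := U
  refine res_ext (A := AddCommGrpCat.{u + 1}) G' _ _ fun y => ?_
  haveI : AlgebraicGeometry.Etale U.hom := U.prop
  obtain ⟨l, hl, hly⟩ := Scheme.exists_fac_of_etale_of_isSepClosed U.hom (pt Ω) y (Subsingleton.elim (α := Spec (CommRingCat.of Ω)) _ _)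
  let v : Fib (pt Ω) U := Fib.mk l hl
  have e : germ (A := AddCommGrpCat.{u + 1}) (pt Ω) G' U v (a.hom.app (op U) s) =
      germ (A := AddCommGrpCat.{u + 1}) (pt Ω) G' U v (b.hom.app (op U) s) := by
    rw [← germ_natural_apply, ← germ_natural_apply, h]
  obtain ⟨V, g, w, hw, he⟩ := (germ_eq_iff (A := AddCommGrpCat.{u + 1}) (pt Ω) U v _ _).1 e
  refine ⟨V, g, ⟨w.pt, ?_⟩, he⟩
  have h1 : g.left.base w.pt = v.pt := congrArg (fun r : Fib (pt Ω) U => r.pt) hw
  exact h1.trans ((congrArg l.base (Subsingleton.elim _ _)).trans hly)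

theorem surjective_stk_unit {Z : Scheme.{u}} (h : Z ⟶ Spec (CommRingCat.of Ω)) [IsFinite h]
    [Subsingleton (Lifts h (pt Ω))] (G : EtCoh.Ab (Spec (CommRingCat.of Ω))) :
    Function.Surjective ((stk (A := AddCommGrpCat.{u + 1}) (pt Ω)).map ((EtCoh.pullPushAdj h).unit.app G)) := by
  intro q
  rcases isEmpty_or_nonempty (Lifts h (pt Ω)) with he | ⟨⟨u₀⟩⟩
  · refine ⟨0, (map_zero _).trans (liftGerm_jointly_injective h _ (pt Ω) q fun u => isEmptyElim u).symm⟩
  obtain ⟨U, v, x, hx⟩ := exists_germ (A := AddCommGrpCat.{u + 1}) (pt Ω)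
    (back h (pt Ω) G u₀ (liftGerm h ((EtCoh.pull h).obj G) (pt Ω) u₀ q))
  refine ⟨germ (A := AddCommGrpCat.{u + 1}) (pt Ω) G U v x, sub_eq_zero.1
    (liftGerm_jointly_injective h _ (pt Ω) _ fun u => ?_)⟩
  obtain rfl : u = u₀ := Subsingleton.elim u u₀
  refine (map_sub _ _ _).trans (sub_eq_zero.2 ?_)
  apply injective_back h (pt Ω) G u
  refine Eq.trans ?_ hx
  refine (congrArg (fun t => back h (pt Ω) G u (liftGerm h ((EtCoh.pull h).obj G) (pt Ω) u t))
    (germ_natural_apply (A := AddCommGrpCat.{u + 1}) (pt Ω) ((EtCoh.pullPushAdj h).unit.app G) U v x)).trans ?_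
  refine (congrArg (back h (pt Ω) G u) (liftGerm_germ h _ (pt Ω) u U v _)).trans ?_
  exact back_germ h (pt Ω) G u U v x

theorem point_comp_eq {A B C : EtCoh.Ab (Spec (CommRingCat.of Ω))} (a : A ⟶ B) (b b' : B ⟶ C) (e : a ≫ b = a ≫ b')
    (z : (stk (A := AddCommGrpCat.{u + 1}) (pt Ω)).obj A) :
    (stk (A := AddCommGrpCat.{u + 1}) (pt Ω)).map b ((stk (A := AddCommGrpCat.{u + 1}) (pt Ω)).map a z) =
      (stk (A := AddCommGrpCat.{u + 1}) (pt Ω)).map b' ((stk (A := AddCommGrpCat.{u + 1}) (pt Ω)).map a z) := by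
  have e' := congrArg (stk (A := AddCommGrpCat.{u + 1}) (pt Ω)).map e
  rw [Functor.map_comp, Functor.map_comp] at e'
  exact congrArg (fun t : (stk (A := AddCommGrpCat.{u + 1}) (pt Ω)).obj A ⟶
    (stk (A := AddCommGrpCat.{u + 1}) (pt Ω)).obj C => t z) e'

theorem eq_of_surjective_stk {G G' : EtCoh.Ab (Spec (CommRingCat.of Ω))} (ε : G ⟶ G') (a b : G' ⟶ G)
    (hs : Function.Surjective ((stk (A := AddCommGrpCat.{u + 1}) (pt Ω)).map ε)) (e : ε ≫ a = ε ≫ b) : a = b := by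
  refine hom_ext_point _ _ (AddCommGrpCat.ext fun q => ?_)
  obtain ⟨p, rfl⟩ := hs q
  have e' := congrArg (stk (A := AddCommGrpCat.{u + 1}) (pt Ω)).map e
  rw [Functor.map_comp, Functor.map_comp] at e'
  exact congrArg (fun t : (stk (A := AddCommGrpCat.{u + 1}) (pt Ω)).obj G ⟶
    (stk (A := AddCommGrpCat.{u + 1}) (pt Ω)).obj G => t p) e'

theorem single_aux {Z : Scheme.{u}} (h : Z ⟶ Spec (CommRingCat.of Ω)) [IsFinite h]
    [Subsingleton (Lifts h (pt Ω))] (G : EtCoh.Ab (Spec (CommRingCat.of Ω)))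
    (a b : (EtCoh.push h).obj ((EtCoh.pull h).obj G) ⟶ G)
    (e : (EtCoh.pullPushAdj h).unit.app G ≫ a = (EtCoh.pullPushAdj h).unit.app G ≫ b) : a = b :=
  eq_of_surjective_stk _ a b (surjective_stk_unit h G) e

theorem degree_eq (T : Fam.{u}) (h4 : Ax4 T) {Z : Scheme.{u}} (h : Z ⟶ Spec (CommRingCat.of Ω)) [IsFinite h]
    [Flat h] [LocallyOfFinitePresentation h] (G : EtCoh.Ab (Spec (CommRingCat.of Ω))) :
    (EtCoh.pullPushAdj h).unit.app G ≫ (T h).app G = (EtCoh.pullPushAdj h).unit.app G ≫ (Tr h).app G :=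
  (h4.eq h _ (fun s => congrArg _ (Subsingleton.elim s default)) G).trans
    (unit_comp_Tr h G _ fun s => congrArg _ (Subsingleton.elim s default)).symm

variable (T : Fam.{u})

theorem single (h4 : Ax4 T) {Z : Scheme.{u}} (h : Z ⟶ Spec (CommRingCat.of Ω)) [IsFinite h] [Flat h]
    [LocallyOfFinitePresentation h] [Subsingleton (Lifts h (pt Ω))] : T h = Tr h :=
  NatTrans.ext (funext fun G => single_aux h G ((T h).app G) ((Tr h).app G) (degree_eq T h4 h G))

end Point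

variable (T : Fam.{u})

theorem stk_eq_of_pull_eq {S : Scheme.{u}} {Ω : Type u} [Field Ω] [IsSepClosed Ω] (η : Spec (CommRingCat.of Ω) ⟶ S)
    {A B : EtCoh.Ab S} (a b : A ⟶ B) (e : (EtCoh.pull η).map a = (EtCoh.pull η).map b) :
    (stk (A := AddCommGrpCat.{u + 1}) η).map a = (stk (A := AddCommGrpCat.{u + 1}) η).map b := by
  refine AddCommGrpCat.ext fun q => ?_
  let w : Lifts η η := ⟨pt Ω, Category.id_comp η⟩
  obtain ⟨z, rfl⟩ := surjective_back η η A w q
  refine (back_natural η η A a w z).symm.trans ?_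
  refine Eq.trans ?_ (back_natural η η A b w z)
  exact congrArg (fun t => back η η B w ((stk (A := AddCommGrpCat.{u + 1}) w.1).map t z)) e

theorem eq_of_factor {C : Type*} [Category C] {a b c d : C} (p : a ⟶ b) (q : b ⟶ c) (t t' : c ⟶ d) (x y : a ⟶ d)
    (h₁ : p ≫ q ≫ t = x) (h₂ : p ≫ q ≫ t' = y) (e : t = t') : x = y := by
  subst e
  exact h₁.symm.trans h₂

theorem pull_eq_of_Tr (h2 : Ax2 T) {X S X' S' : Scheme.{u}} (f : X ⟶ S) (g : S' ⟶ S) (f' : X' ⟶ S') (g' : X' ⟶ X)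
    (hc : IsPullback g' f' f g) [IsFinite f] [Flat f] [LocallyOfFinitePresentation f]
    [IsFinite f'] [Flat f'] [LocallyOfFinitePresentation f'] (F : EtCoh.Ab S)
    (H : (T f').app ((EtCoh.pull g).obj F) = (Tr f').app ((EtCoh.pull g).obj F)) :
    (EtCoh.pull g).map ((T f).app F) = (EtCoh.pull g).map ((Tr f).app F) :=
  eq_of_factor _ _ ((T f').app ((EtCoh.pull g).obj F)) ((Tr f').app ((EtCoh.pull g).obj F)) _ _
    (h2.eq f g f' g' hc F) (var2 f g f' g' hc F) H

theorem of_point (h2 : Ax2 T) {X S : Scheme.{u}} (f : X ⟶ S) [IsFinite f] [Flat f] [LocallyOfFinitePresentation f]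
    (H : ∀ (Ω : Type u) [Field Ω] [IsSepClosed Ω] [IsAlgClosed Ω] (η : Spec (CommRingCat.of Ω) ⟶ S)
      [IsFinite (pullback.snd f η)] [Flat (pullback.snd f η)] [LocallyOfFinitePresentation (pullback.snd f η)],
        T (pullback.snd f η) = Tr (pullback.snd f η)) :
    T f = Tr f := by
  refine NatTrans.ext (funext fun F => hom_ext_stk ((T f).app F) ((Tr f).app F) fun Ω _ _ _ η => ?_)
  haveI : IsFinite (pullback.snd f η) := MorphismProperty.pullback_snd _ _ inferInstance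
  haveI : Flat (pullback.snd f η) := MorphismProperty.pullback_snd _ _ inferInstance
  haveI : LocallyOfFinitePresentation (pullback.snd f η) := MorphismProperty.pullback_snd _ _ inferInstance
  exact stk_eq_of_pull_eq η ((T f).app F) ((Tr f).app F)
    (pull_eq_of_Tr T h2 f η (pullback.snd f η) (pullback.fst f η) (IsPullback.of_hasPullback f η) F
      (congrArg (fun t : EtCoh.pull (pullback.snd f η) ⋙ EtCoh.push (pullback.snd f η) ⟶ 𝟭 _ =>
        t.app ((EtCoh.pull η).obj F)) (H Ω η)))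

theorem atMostOne (h2 : Ax2 T) (h4 : Ax4 T) {X S : Scheme.{u}} (f : X ⟶ S) [IsFinite f] [Flat f]
    [LocallyOfFinitePresentation f] [Mono f] : T f = Tr f := by
  refine of_point T h2 f fun Ω _ _ _ η _ _ _ => ?_
  haveI : Subsingleton (Lifts (pullback.snd f η) (pt Ω)) :=
    ⟨fun a b => Subtype.ext ((cancel_mono (pullback.snd f η)).1 (a.2.trans b.2.symm))⟩
  exact single T h4 _

section Component

variable {Ω : Type u} [Field Ω] [IsSepClosed Ω] [IsAlgClosed Ω] {Z : Scheme.{u}} (h : Z ⟶ Spec (CommRingCat.of Ω))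
  [IsFinite h] (v : Lifts h (pt Ω))

theorem mu_ptOpen [Flat h] (u : Lifts (ptOpen h (v.1.base default)).ι v.1)
    [IsFinite (ptOpen h (v.1.base default)).ι] : mu (ptOpen h (v.1.base default)).ι v.1 u = 1 := by
  let i := (ptOpen h (v.1.base default)).ι
  haveI := finite_lifts' i v.1
  letI := Fintype.ofFinite (Lifts i v.1)
  haveI : Subsingleton (Lifts i v.1) := ⟨fun a b => Subtype.ext ((cancel_mono i).1 (a.2.trans b.2.symm))⟩
  have e := sum_mu i v.1
  rw [Fintype.sum_subsingleton _ u] at e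
  refine e.trans ?_
  haveI : IsFinite (pullback.snd i v.1) := MorphismProperty.pullback_snd _ _ inferInstance
  haveI : IsSplitEpi (pullback.snd i v.1) :=
    IsSplitEpi.mk' ⟨pullback.lift u.1 (𝟙 _) (u.2.trans (Category.id_comp _).symm), pullback.lift_snd _ _ _⟩
  haveI : IsIso (pullback.snd i v.1) := isIso_of_mono_of_isSplitEpi _
  rw [← Scheme.Hom.finrank_pullback_snd, Scheme.Hom.finrank_eq_one_of_isIso]
  rfl

theorem lifts_ptOpen_empty [DiscreteTopology Z] (v' : Lifts h (pt Ω)) (hne : v' ≠ v) :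
    IsEmpty (Lifts (ptOpen h (v.1.base default)).ι v'.1) := ⟨fun u => hne (Subtype.ext (by
  refine ext_of_apply_closedPoint_eq h v'.2 v.2 ?_
  rw [Subsingleton.elim (α := Spec (CommRingCat.of Ω)) (IsLocalRing.closedPoint Ω) default, ← u.2, Scheme.Hom.comp_apply]
  exact (u.1.base default).2))⟩

variable [Flat h] [LocallyOfFinitePresentation h] (T : Fam.{u})

theorem general_step (h2 : Ax2 T) (h3 : Ax3 T) (h4 : Ax4 T) (G : EtCoh.Ab (Spec (CommRingCat.of Ω)))
    (q : (stk (A := AddCommGrpCat.{u + 1}) (pt Ω)).obj ((EtCoh.push h).obj ((EtCoh.pull h).obj G))) :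
    ∃ q' : (stk (A := AddCommGrpCat.{u + 1}) (pt Ω)).obj ((EtCoh.push h).obj ((EtCoh.pull h).obj G)),
      (stk (A := AddCommGrpCat.{u + 1}) (pt Ω)).map ((T h).app G) q' =
        (stk (A := AddCommGrpCat.{u + 1}) (pt Ω)).map ((Tr h).app G) q' ∧
      liftGerm h _ (pt Ω) v q' = liftGerm h _ (pt Ω) v q ∧
      ∀ v', v' ≠ v → liftGerm h _ (pt Ω) v' q' = 0 := by
  haveI := discrete h
  let P := ptOpen h (v.1.base default)
  haveI : IsClosedImmersion P.ι := ⟨P.ι.isEmbedding, by rw [Scheme.Opens.range_ι]; exact isClosed_discrete _⟩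
  haveI : IsFinite (P.ι ≫ h) := inferInstance
  haveI : Flat (P.ι ≫ h) := inferInstance
  haveI : LocallyOfFinitePresentation (P.ι ≫ h) := inferInstance
  haveI : Subsingleton (P : Scheme.{u}) := ⟨fun a b => Subtype.ext ((a.2 : a.1 = _).trans (b.2 : b.1 = _).symm)⟩
  haveI : Subsingleton (Lifts (P.ι ≫ h) (pt Ω)) :=
    ⟨fun a b => Subtype.ext (ext_of_apply_closedPoint_eq (P.ι ≫ h) a.2 b.2 (Subsingleton.elim _ _))⟩
  let u₀ : Lifts P.ι v.1 := ⟨IsOpenImmersion.lift P.ι v.1 (by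
    rintro _ ⟨y, rfl⟩
    rw [Scheme.Opens.range_ι, Subsingleton.elim y default]
    exact rfl), IsOpenImmersion.lift_fac _ _ _⟩
  let φ := (EtCore.pullComp P.ι h).hom.app G
  have hφ : φ ≫ (etSys.c P.ι h (P.ι ≫ h) rfl).app G = 𝟙 _ :=
    (congrArg ((EtCore.pullComp P.ι h).hom.app G ≫ ·) (pullComp_inv_app P.ι h G).symm).trans
      ((EtCore.pullComp P.ι h).hom_inv_id_app G)
  let a : (EtCoh.push (P.ι ≫ h)).obj ((EtCoh.pull (P.ι ≫ h)).obj G) ⟶ (EtCoh.push h).obj ((EtCoh.pull h).obj G) :=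
    (EtCoh.push (P.ι ≫ h)).map φ ≫ (EtCoh.pushComp h P.ι).inv.app ((EtCoh.pull P.ι).obj ((EtCoh.pull h).obj G)) ≫
      (EtCoh.push h).map (trApp P.ι ((EtCoh.pull h).obj G))
  have e1 : a ≫ (T h).app G = a ≫ (Tr h).app G := by
    have hT := h3.eq P.ι h G
    rw [atMostOne T h2 h4 P.ι, single T h4 (P.ι ≫ h), var3 P.ι h G] at hT
    refine (Category.assoc _ _ _).trans (Eq.trans ?_ (Category.assoc _ _ _).symm)
    refine (congrArg (_ ≫ ·) (Category.assoc _ _ _)).trans (Eq.trans ?_ (congrArg (_ ≫ ·) (Category.assoc _ _ _)).symm)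
    exact hT.symm
  obtain ⟨U, t, x, hx⟩ := exists_germ (A := AddCommGrpCat.{u + 1}) (pt Ω)
    (back h (pt Ω) G v (liftGerm h _ (pt Ω) v q))
  let z := (stk (A := AddCommGrpCat.{u + 1}) (pt Ω)).map ((EtCoh.pullPushAdj (P.ι ≫ h)).unit.app G)
    (germ (A := AddCommGrpCat.{u + 1}) (pt Ω) G U t x)
  refine ⟨(stk (A := AddCommGrpCat.{u + 1}) (pt Ω)).map a z, ?_, ?_⟩
  · exact point_comp_eq a ((T h).app G) ((Tr h).app G) e1 z
  have hcomp : ∀ (v' : Lifts h (pt Ω)) [Fintype (Lifts P.ι v'.1)],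
      liftGerm h _ (pt Ω) v' ((stk (A := AddCommGrpCat.{u + 1}) (pt Ω)).map a z) =
      ∑ u : Lifts P.ι v'.1, mu P.ι v'.1 u • back P.ι v'.1 ((EtCoh.pull h).obj G) u
        ((stk (A := AddCommGrpCat.{u + 1}) u.1).map φ (liftGerm (P.ι ≫ h) _ (pt Ω) (Lifts.comp rfl v' u) z)) := by
    intro v' _
    rw [show (stk (A := AddCommGrpCat.{u + 1}) (pt Ω)).map a z =
      (stk (A := AddCommGrpCat.{u + 1}) (pt Ω)).map ((EtCoh.push h).map (trApp P.ι ((EtCoh.pull h).obj G)))
        ((stk (A := AddCommGrpCat.{u + 1}) (pt Ω)).map ((EtCoh.pushComp h P.ι).inv.app ((EtCoh.pull P.ι).obj ((EtCoh.pull h).obj G)))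
          ((stk (A := AddCommGrpCat.{u + 1}) (pt Ω)).map ((EtCoh.push (P.ι ≫ h)).map φ) z)) from by
      rw [Functor.map_comp, Functor.map_comp]; rfl]
    rw [liftGerm_natural, stk_trApp, trS_apply P.ι v'.1]
    refine Finset.sum_congr rfl fun u _ => congrArg _ (congrArg _ ?_)
    exact (liftGerm_comp P.ι h (pt Ω) _ v' u _).trans (liftGerm_natural (P.ι ≫ h) _ φ (pt Ω) (Lifts.comp rfl v' u) z)
  refine ⟨?_, fun v' hne => ?_⟩
  · haveI : Subsingleton (Lifts P.ι v.1) := ⟨fun a b => Subtype.ext ((cancel_mono P.ι).1 (a.2.trans b.2.symm))⟩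
    haveI := finite_lifts' P.ι v.1
    letI := Fintype.ofFinite (Lifts P.ι v.1)
    refine (hcomp v).trans ((Fintype.sum_subsingleton _ u₀).trans ?_)
    rw [mu_ptOpen h v u₀, one_nsmul]
    apply injective_back h (pt Ω) G v
    refine (back_psi P.ι h (pt Ω) G φ hφ v u₀ _).trans ?_
    refine Eq.trans ?_ hx
    refine (congrArg (fun t => back (P.ι ≫ h) (pt Ω) G _ (liftGerm (P.ι ≫ h) _ (pt Ω) _ t))
      (germ_natural_apply (A := AddCommGrpCat.{u + 1}) (pt Ω) _ U t x)).trans ?_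
    refine (congrArg (back (P.ι ≫ h) (pt Ω) G _) (liftGerm_germ (P.ι ≫ h) _ (pt Ω) _ U t _)).trans ?_
    exact back_germ (P.ι ≫ h) (pt Ω) G _ U t x
  · haveI : IsEmpty (Lifts P.ι v'.1) := lifts_ptOpen_empty h v v' hne
    letI : Fintype (Lifts P.ι v'.1) := Fintype.ofIsEmpty
    exact (hcomp v').trans (by simp)

omit v in
theorem general (h2 : Ax2 T) (h3 : Ax3 T) (h4 : Ax4 T) : T h = Tr h := by
  classical
  refine NatTrans.ext (funext fun G => hom_ext_point _ _ (AddCommGrpCat.ext fun q => ?_))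
  haveI := finite_lifts' h (pt Ω)
  letI := Fintype.ofFinite (Lifts h (pt Ω))
  choose q' hq heq hne using fun v => general_step h v T h2 h3 h4 G q
  have hsum : q = ∑ v, q' v := sub_eq_zero.1 (liftGerm_jointly_injective h _ (pt Ω) _ fun v => by
    refine (map_sub _ _ _).trans (sub_eq_zero.2 (Eq.trans ?_ (map_sum _ _ _).symm))
    rw [Finset.sum_eq_single v (fun w _ hw => hne w v (Ne.symm hw)) (fun hv => absurd (Finset.mem_univ v) hv)]
    exact (heq v).symm)
  rw [hsum]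
  refine (map_sum _ _ _).trans (Eq.trans ?_ (map_sum _ _ _).symm)
  exact Finset.sum_congr rfl fun v _ => hq v

end Component

theorem unique (h2 : Ax2 T) (h3 : Ax3 T) (h4 : Ax4 T) {X S : Scheme.{u}} (f : X ⟶ S) [IsFinite f] [Flat f]
    [LocallyOfFinitePresentation f] : T f = Tr f :=
  of_point T h2 f fun Ω _ _ _ η _ _ _ => general (pullback.snd f η) T h2 h3 h4

end TrFlatLib

end
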