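import Groth.Agent.TrFlatLib.Compat

/-!
# Compatibility of the trace with composition
-/

set_option autoImplicit false
set_option linter.all false
set_option backward.isDefEq.respectTransparency false
set_option backward.isDefEq.respectTransparency.types false
set_option maxHeartbeats 4000000
set_option synthInstance.maxHeartbeats 400000
set_option maxRecDepth 4000

universe u

open CategoryTheory CategoryTheory.Limits AlgebraicGeometry Opposite TopologicalSpace
open Groth.Agent Groth.Agent.EtShLib DescSecLib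

noncomputable section

namespace TrFlatLib

theorem finrank_comp_point {Ω : Type u} [Field Ω] {R P : Scheme.{u}} [Subsingleton P] (x : P) (r : R ⟶ P)
    (p : P ⟶ Spec (CommRingCat.of Ω)) [IsFinite r] [Flat r] [IsFinite p] :
    (r ≫ p).finrank default = p.finrank default * r.finrank x := by
  haveI : IsAffine P := isAffine_of_isAffineHom p
  haveI : IsAffine R := isAffine_of_isAffineHom r
  letI := ((Scheme.ΓSpecIso (CommRingCat.of Ω)).inv ≫ p.appTop).hom.toAlgebra
  letI := ((Scheme.ΓSpecIso (CommRingCat.of Ω)).inv ≫ (r ≫ p).appTop).hom.toAlgebra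
  letI := r.appTop.hom.toAlgebra
  haveI : IsScalarTower Ω Γ(P, ⊤) Γ(R, ⊤) := IsScalarTower.of_algebraMap_eq fun z => by
    show ((Scheme.ΓSpecIso (CommRingCat.of Ω)).inv ≫ (r ≫ p).appTop) z =
      r.appTop (((Scheme.ΓSpecIso (CommRingCat.of Ω)).inv ≫ p.appTop) z)
    rw [Scheme.Hom.comp_appTop]
    rfl
  haveI : Module.Finite Γ(P, ⊤) Γ(R, ⊤) := RingHom.finite_algebraMap.1 r.finite_appTop
  haveI : Module.Flat Γ(P, ⊤) Γ(R, ⊤) := RingHom.flat_algebraMap_iff.1 r.flat_appTop
  haveI : Subsingleton (PrimeSpectrum Γ(P, ⊤)) :=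
    ⟨fun a b => P.isoSpec.inv.homeomorph.injective (Subsingleton.elim (α := P) _ _)⟩
  haveI : Nontrivial Γ(P, ⊤) := (P.isoSpec.hom.base x : PrimeSpectrum Γ(P, ⊤)).nontrivial
  haveI : IsLocalRing Γ(P, ⊤) := IsLocalRing.of_unique_max_ideal (by
    obtain ⟨M, hM⟩ := Ideal.exists_maximal Γ(P, ⊤)
    exact ⟨M, hM, fun M' hM' => congrArg PrimeSpectrum.asIdeal
      (Subsingleton.elim (⟨M', hM'.isPrime⟩ : PrimeSpectrum Γ(P, ⊤)) ⟨M, hM.isPrime⟩)⟩)
  haveI : Module.Free Γ(P, ⊤) Γ(R, ⊤) := Module.free_of_flat_of_isLocalRing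
  have hr : r.finrank x = Module.finrank Γ(P, ⊤) Γ(R, ⊤) := by
    have hpb : IsPullback R.isoSpec.hom r (Spec.map r.appTop) P.isoSpec.hom :=
      IsPullback.of_horiz_isIso ⟨(Scheme.isoSpec_hom_naturality r).symm ▸ rfl⟩
    haveI : IsFinite (Spec.map r.appTop) := (IsFinite.SpecMap_iff _).2 r.finite_appTop
    haveI : Flat (Spec.map r.appTop) := Flat.SpecMap_iff.2 r.flat_appTop
    rw [Scheme.Hom.finrank_of_isPullback _ _ _ _ hpb]
    show Scheme.Hom.finrank (Spec.map (CommRingCat.ofHom (algebraMap Γ(P, ⊤) Γ(R, ⊤)))) _ = _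
    rw [Scheme.Hom.finrank_SpecMap_algebraMap, Module.rankAtStalk_eq_finrank_of_free]
    rfl
  rw [finrank_eq, finrank_eq, hr]
  exact (Module.finrank_mul_finrank Ω Γ(P, ⊤) Γ(R, ⊤)).symm

variable {X Y S : Scheme.{u}} (h : X ⟶ Y) (g : Y ⟶ S) [IsFinite h] [Flat h] [LocallyOfFinitePresentation h]
  [IsFinite g] [IsFinite (h ≫ g)] {Ω : Type u} [Field Ω] [IsSepClosed Ω] [IsAlgClosed Ω]
  (η : Spec (CommRingCat.of Ω) ⟶ S)

theorem mu_comp (v : Lifts g η) (u : Lifts h v.1) :
    mu (h ≫ g) η (Lifts.comp rfl v u) = mu g η v * mu h v.1 u := by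
  haveI : IsFinite (pullback.snd (h ≫ g) η) := MorphismProperty.pullback_snd _ _ inferInstance
  haveI : IsFinite (pullback.snd g η) := MorphismProperty.pullback_snd _ _ inferInstance
  haveI : IsFinite (pullback.snd h v.1) := MorphismProperty.pullback_snd _ _ inferInstance
  haveI := discrete (pullback.snd (h ≫ g) η)
  haveI := discrete (pullback.snd g η)
  haveI := discrete (pullback.snd h v.1)
  let m : pullback (h ≫ g) η ⟶ pullback g η :=
    pullback.lift (pullback.fst (h ≫ g) η ≫ h) (pullback.snd (h ≫ g) η) (by rw [Category.assoc, pullback.condition])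
  have hm : IsPullback (pullback.fst (h ≫ g) η) m h (pullback.fst g η) := by
    refine IsPullback.of_bot ?_ (pullback.lift_fst _ _ _).symm (IsPullback.of_hasPullback g η)
    rw [pullback.lift_snd]
    exact IsPullback.of_hasPullback (h ≫ g) η
  haveI : IsFinite m := MorphismProperty.of_isPullback hm ‹IsFinite h›
  haveI : Flat m := MorphismProperty.of_isPullback hm ‹Flat h›
  let v' : Spec (CommRingCat.of Ω) ⟶ pullback g η := pullback.lift v.1 (𝟙 _) (v.2.trans (Category.id_comp _).symm)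
  let n : pullback h v.1 ⟶ pullback (h ≫ g) η := pullback.lift (pullback.fst h v.1) (pullback.snd h v.1) (by
    rw [← Category.assoc, pullback.condition, Category.assoc, v.2])
  have hn : IsPullback n (pullback.snd h v.1) m v' := by
    refine IsPullback.of_right ?_ ?_ hm
    · rw [pullback.lift_fst, pullback.lift_fst]
      exact IsPullback.of_hasPullback h v.1
    · refine pullback.hom_ext ?_ ?_
      · rw [Category.assoc, Category.assoc, pullback.lift_fst, pullback.lift_fst, ← Category.assoc,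
          pullback.lift_fst, pullback.condition]
      · rw [Category.assoc, Category.assoc, pullback.lift_snd, pullback.lift_snd, pullback.lift_snd, Category.comp_id]
  let q := ptOf (h ≫ g) η (Lifts.comp rfl v u)
  let R := ptOpen (pullback.snd (h ≫ g) η) q
  let P := ptOpen (pullback.snd g η) (ptOf g η v)
  have hnq : n.base (ptOf h v.1 u) = q := by
    show n.base ((pullback.lift u.1 (𝟙 _) _ : Spec (CommRingCat.of Ω) ⟶ pullback h v.1).base default) = _
    rw [← Scheme.Hom.comp_apply]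
    refine congrArg (fun t : Spec (CommRingCat.of Ω) ⟶ pullback (h ≫ g) η => t.base default) (pullback.hom_ext ?_ ?_)
    · rw [Category.assoc, pullback.lift_fst, pullback.lift_fst, pullback.lift_fst]
      rfl
    · rw [Category.assoc, pullback.lift_snd, pullback.lift_snd, pullback.lift_snd]
  have hmq : m.base q = ptOf g η v := by
    rw [← hnq, ← Scheme.Hom.comp_apply, hn.w, Scheme.Hom.comp_apply]
    exact congrArg v'.base (Subsingleton.elim _ _)
  have hRclosed : IsClosedImmersion R.ι :=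
    ⟨R.ι.isEmbedding, by rw [Scheme.Opens.range_ι]; exact isClosed_discrete _⟩
  haveI := hRclosed
  haveI : IsClosedImmersion P.ι := ⟨P.ι.isEmbedding, by rw [Scheme.Opens.range_ι]; exact isClosed_discrete _⟩
  have hd : (R.ι ≫ m).finrank (ptOf g η v) = mu h v.1 u := by
    have hpre : n ⁻¹ᵁ R = ptOpen (pullback.snd h v.1) (ptOf h v.1 u) := Opens.ext (Set.ext fun y => by
      refine ⟨fun hy => ?_, fun hy => ?_⟩
      · obtain ⟨u', rfl⟩ := (bijective_ptOf h v.1).2 y
        have hy' : n.base (ptOf h v.1 u') = q := hy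
        have e1 : n.base (ptOf h v.1 u') = ptOf (h ≫ g) η (Lifts.comp rfl v u') := by
          show n.base ((pullback.lift u'.1 (𝟙 _) _ : Spec (CommRingCat.of Ω) ⟶ pullback h v.1).base default) = _
          rw [← Scheme.Hom.comp_apply]
          refine congrArg (fun t : Spec (CommRingCat.of Ω) ⟶ pullback (h ≫ g) η => t.base default)
            (pullback.hom_ext ?_ ?_)
          · rw [Category.assoc, pullback.lift_fst, pullback.lift_fst, pullback.lift_fst]
            rfl
          · rw [Category.assoc, pullback.lift_snd, pullback.lift_snd, pullback.lift_snd]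
        have := congrArg Subtype.val ((bijective_ptOf (h ≫ g) η).1 (e1.symm.trans hy'))
        exact congrArg (ptOf h v.1) (Subtype.ext this)
      · show n.base y = q
        rw [show y = ptOf h v.1 u from hy, hnq])
    haveI := WeightLib.isFinite_restrict hn R
    rw [show ptOf g η v = v'.base default from rfl,
      ← Scheme.Hom.finrank_of_isPullback _ _ _ _ (WeightLib.isPullback_restrict hn R), finrank_ι, hpre]
    rfl
  have hsub : Set.range (R.ι ≫ m).base ⊆ Set.range P.ι.base := by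
    rintro _ ⟨z, rfl⟩
    rw [Scheme.Opens.range_ι, Scheme.Hom.comp_apply]
    show m.base z.1 = ptOf g η v
    rw [show z.1 = q from z.2, hmq]
  let r : (R : Scheme.{u}) ⟶ P := IsOpenImmersion.lift P.ι (R.ι ≫ m) hsub
  have hr : r ≫ P.ι = R.ι ≫ m := IsOpenImmersion.lift_fac _ _ _
  have hpb : IsPullback (𝟙 _) r (R.ι ≫ m) P.ι := by
    exact IsPullback.of_isLimit (PullbackCone.IsLimit.mk ((Category.id_comp _).trans hr.symm) (fun s => s.fst) (fun s => Category.comp_id _) (fun s => (cancel_mono P.ι).1 ((Category.assoc _ _ _).trans ((congrArg (s.fst ≫ ·) hr).trans s.condition))) (fun s m h1 h2 => (Category.comp_id m).symm.trans h1))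
  haveI : IsFinite r := MorphismProperty.of_isPullback hpb inferInstance
  haveI : Flat r := MorphismProperty.of_isPullback hpb inferInstance
  haveI : Subsingleton (P : Scheme.{u}) := ⟨fun a b => Subtype.ext ((a.2 : a.1 = _).trans (b.2 : b.1 = _).symm)⟩
  let x : (P : Scheme.{u}) := ⟨ptOf g η v, rfl⟩
  have hmul := finrank_comp_point x r (P.ι ≫ pullback.snd g η)
  have hcomp : r ≫ P.ι ≫ pullback.snd g η = R.ι ≫ pullback.snd (h ≫ g) η := by
    rw [reassoc_of% hr, pullback.lift_snd]
  rw [Scheme.Hom.finrank_of_isPullback _ _ _ _ hpb x] at hmul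
  have e2 : P.ι.base x = ptOf g η v := rfl
  rw [e2, hd, finrank_ι] at hmul
  have e3 : (r ≫ P.ι ≫ pullback.snd g η).finrank default = (R.ι ≫ pullback.snd (h ≫ g) η).finrank default := by
    congr 1
  rw [e3, finrank_ι] at hmul
  exact hmul

/-- The lifts along a composite. -/
def liftsEquiv : (Σ v : Lifts g η, Lifts h v.1) ≃ Lifts (h ≫ g) η where
  toFun p := Lifts.comp rfl p.1 p.2
  invFun u := ⟨⟨u.1 ≫ h, by rw [Category.assoc, u.2]⟩, ⟨u.1, rfl⟩⟩
  left_inv := fun ⟨⟨v, hv⟩, ⟨u, hu⟩⟩ => by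
    cases hu
    rfl
  right_inv u := rfl

theorem liftGerm_comp (G : EtCoh.Ab X) (v : Lifts g η) (u : Lifts h v.1)
    (z : (stk (A := AddCommGrpCat.{u + 1}) η).obj ((EtCoh.push (h ≫ g)).obj G)) :
    liftGerm h G v.1 u (liftGerm g ((EtCoh.push h).obj G) η v
      ((stk (A := AddCommGrpCat.{u + 1}) η).map ((EtCoh.pushComp g h).inv.app G) z)) =
      liftGerm (h ≫ g) G η (Lifts.comp rfl v u) z := by
  obtain ⟨U, z', s, rfl⟩ := exists_germ (A := AddCommGrpCat.{u + 1}) η z
  rw [EtSliceLib.pushComp_inv_eq, germ_natural_apply, liftGerm_germ]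
  refine (congrArg (fun t => liftGerm h G v.1 u t) (liftGerm_germ g ((EtCoh.push h).obj G) η v U z' _)).trans ?_
  refine (liftGerm_germ h G v.1 u _ (Fib.liftU g v z') _).trans ?_
  refine (germ_res_apply (A := AddCommGrpCat.{u + 1}) u.1 G (bcCompHom h g (h ≫ g) rfl U)
    (Fib.liftU h u (Fib.liftU g v z')) s).trans ?_
  rw [liftU_comp h g (h ≫ g) rfl v u U z']
  rfl

variable [Flat g] [LocallyOfFinitePresentation g] [Flat (h ≫ g)] [LocallyOfFinitePresentation (h ≫ g)] (F : EtCoh.Ab S)

theorem back_psi (ψ : (EtCoh.pull (h ≫ g)).obj F ⟶ (EtCoh.pull h).obj ((EtCoh.pull g).obj F))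
    (hψ : ψ ≫ (etSys.c h g (h ≫ g) rfl).app F = 𝟙 _) (v : Lifts g η) (u : Lifts h v.1)
    (y : (stk (A := AddCommGrpCat.{u + 1}) u.1).obj ((EtCoh.pull (h ≫ g)).obj F)) :
    back g η F v (back h v.1 ((EtCoh.pull g).obj F) u ((stk (A := AddCommGrpCat.{u + 1}) u.1).map ψ y)) =
      back (h ≫ g) η F (Lifts.comp rfl v u) y := by
  have k := back_c h g (h ≫ g) rfl F v u ((stk (A := AddCommGrpCat.{u + 1}) u.1).map ψ y)
  have hstep : (stk (A := AddCommGrpCat.{u + 1}) u.1).map ((etSys.c h g (h ≫ g) rfl).app F)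
      ((stk (A := AddCommGrpCat.{u + 1}) u.1).map ψ y) = y :=
    (ConcreteCategory.comp_apply ((stk (A := AddCommGrpCat.{u + 1}) u.1).map ψ) _ y).symm.trans
      (congrArg (fun t : (stk (A := AddCommGrpCat.{u + 1}) u.1).obj ((EtCoh.pull (h ≫ g)).obj F) ⟶
        (stk (A := AddCommGrpCat.{u + 1}) u.1).obj ((EtCoh.pull (h ≫ g)).obj F) => t y)
        (((stk (A := AddCommGrpCat.{u + 1}) u.1).map_comp _ _).symm.trans
          ((congrArg (stk (A := AddCommGrpCat.{u + 1}) u.1).map hψ).trans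
            ((stk (A := AddCommGrpCat.{u + 1}) u.1).map_id _))))
  exact k.symm.trans (congrArg _ hstep)

theorem stk_var3 (ψ : (EtCoh.pull (h ≫ g)).obj F ⟶ (EtCoh.pull h).obj ((EtCoh.pull g).obj F))
    (hψ : ψ ≫ (etSys.c h g (h ≫ g) rfl).app F = 𝟙 _)
    (p : (stk (A := AddCommGrpCat.{u + 1}) η).obj ((EtCoh.push (h ≫ g)).obj ((EtCoh.pull (h ≫ g)).obj F))) :
    trS g η F ((stk (A := AddCommGrpCat.{u + 1}) η).map ((EtCoh.push g).map (trApp h ((EtCoh.pull g).obj F)))
      ((stk (A := AddCommGrpCat.{u + 1}) η).map ((EtCoh.pushComp g h).inv.app ((EtCoh.pull h).obj ((EtCoh.pull g).obj F)))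
        ((stk (A := AddCommGrpCat.{u + 1}) η).map ((EtCoh.push (h ≫ g)).map ψ) p))) =
      trS (h ≫ g) η F p := by
  classical
  haveI := finite_lifts' g η
  haveI := finite_lifts' (h ≫ g) η
  letI := Fintype.ofFinite (Lifts g η)
  letI := Fintype.ofFinite (Lifts (h ≫ g) η)
  haveI : ∀ v : Lifts g η, Finite (Lifts h v.1) := fun v => finite_lifts' h v.1
  letI : ∀ v : Lifts g η, Fintype (Lifts h v.1) := fun v => Fintype.ofFinite _
  rw [trS_apply g η F, trS_apply (h ≫ g) η F]
  rw [← (liftsEquiv h g η).sum_comp, Fintype.sum_sigma]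
  refine Finset.sum_congr rfl fun v _ => ?_
  rw [liftGerm_natural, stk_trApp, trS_apply h v.1 ((EtCoh.pull g).obj F), map_sum, Finset.smul_sum]
  refine Finset.sum_congr rfl fun u _ => ?_
  rw [map_nsmul, smul_smul, ← mu_comp h g η v u]
  refine congrArg _ ?_
  refine (congrArg (fun z => back g η F v (back h v.1 ((EtCoh.pull g).obj F) u z))
    ((liftGerm_comp h g η _ v u _).trans (liftGerm_natural (h ≫ g) _ ψ η (Lifts.comp rfl v u) p))).trans ?_
  exact back_psi h g η F ψ hψ v u _

theorem var3_aux (ψ : (EtCoh.pull (h ≫ g)).obj F ⟶ (EtCoh.pull h).obj ((EtCoh.pull g).obj F))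
    (hψ : ψ ≫ (etSys.c h g (h ≫ g) rfl).app F = 𝟙 _) :
    trApp (h ≫ g) F = (EtCoh.push (h ≫ g)).map ψ ≫
      (EtCoh.pushComp g h).inv.app ((EtCoh.pull h).obj ((EtCoh.pull g).obj F)) ≫
        (EtCoh.push g).map (trApp h ((EtCoh.pull g).obj F)) ≫ trApp g F := by
  refine hom_ext_stk _ _ fun Ω _ _ _ η => ?_
  refine AddCommGrpCat.ext fun p => ?_
  rw [Functor.map_comp, Functor.map_comp, Functor.map_comp, stk_trApp, stk_trApp, ConcreteCategory.comp_apply,
    ConcreteCategory.comp_apply, ConcreteCategory.comp_apply]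
  exact (stk_var3 h g η F ψ hψ p).symm

theorem var3 :
    (Tr (h ≫ g)).app F =
      (EtCoh.push (h ≫ g)).map ((EtCore.pullComp h g).hom.app F) ≫
        (EtCoh.pushComp g h).inv.app ((EtCoh.pull h).obj ((EtCoh.pull g).obj F)) ≫
        (EtCoh.push g).map ((Tr h).app ((EtCoh.pull g).obj F)) ≫ (Tr g).app F :=
  var3_aux h g F _ ((congrArg ((EtCore.pullComp h g).hom.app F ≫ ·) (pullComp_inv_app h g F).symm).trans
    ((EtCore.pullComp h g).hom_inv_id_app F))

end TrFlatLib

end
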