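import Groth.Agent.TrFlatLib.Glue
import Groth.Agent.EtShLib.FiniteBC0
import Groth.Agent.EtSliceLib.Hpull

/-!
# Compatibility of the trace with base change
-/

set_option autoImplicit false
set_option linter.all false
set_option backward.isDefEq.respectTransparency false
set_option backward.isDefEq.respectTransparency.types false
set_option maxHeartbeats 4000000
set_option synthInstance.maxHeartbeats 400000
set_option maxRecDepth 4000

universe u

open CategoryTheory CategoryTheory.Limits AlgebraicGeometry Opposite TopologicalSpace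
open Groth.Agent Groth.Agent.EtShLib DescSecLib

noncomputable section

namespace TrFlatLib

variable {X Y W : Scheme.{u}}

theorem unit_c (f : X ⟶ Y) (g : Y ⟶ W) (h : X ⟶ W) (w : f ≫ g = h) (G : EtCoh.Ab W) (U : W.Etale)
    (x : G.obj.obj (op U)) :
    ((etSys.c f g h w).app G).hom.app (op ((EtCoh.bc f).obj ((EtCoh.bc g).obj U)))
      (((EtCoh.pullPushAdj f).unit.app ((EtCoh.pull g).obj G)).hom.app (op ((EtCoh.bc g).obj U))
        (((EtCoh.pullPushAdj g).unit.app G).hom.app (op U) x)) =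
      ((EtCoh.pull h).obj G).obj.map (bcCompHom f g h w U).op
        (((EtCoh.pullPushAdj h).unit.app G).hom.app (op U) x) := by
  have e := etSys.homEquiv_c f g h w G
  rw [Adjunction.homEquiv_unit, Adjunction.homEquiv_unit] at e
  exact congrArg (fun t : G ⟶ (EtCoh.push g).obj ((EtCoh.push f).obj ((EtCoh.pull h).obj G)) => t.hom.app (op U) x) e

theorem surjective_back {S : Scheme.{u}} (f : X ⟶ S) {Ω : Type u} [Field Ω] [IsSepClosed Ω]
    (η : Spec (CommRingCat.of Ω) ⟶ S) (G : EtCoh.Ab S) (u : Lifts f η) :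
    Function.Surjective (back f η G u) :=
  ((ConcreteCategory.isIso_iff_bijective (back f η G u)).1 (by unfold back; infer_instance)).2

theorem exists_unit_germ {S : Scheme.{u}} (f : X ⟶ S) {Ω : Type u} [Field Ω] [IsSepClosed Ω]
    (η : Spec (CommRingCat.of Ω) ⟶ S) (G : EtCoh.Ab S) (u : Lifts f η)
    (z : (stk (A := AddCommGrpCat.{u + 1}) u.1).obj ((EtCoh.pull f).obj G)) :
    ∃ (U : S.Etale) (v : Fib η U) (x : G.obj.obj (op U)),
      germ (A := AddCommGrpCat.{u + 1}) u.1 ((EtCoh.pull f).obj G) _ (Fib.liftU f u v)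
        (((EtCoh.pullPushAdj f).unit.app G).hom.app (op U) x) = z := by
  obtain ⟨U, v, x, hx⟩ := exists_germ (A := AddCommGrpCat.{u + 1}) η (back f η G u z)
  exact ⟨U, v, x, injective_back f η G u ((back_germ f η G u U v x).trans hx)⟩

/-- A lift along the composite. -/
def Lifts.comp {f : X ⟶ Y} {g : Y ⟶ W} {h : X ⟶ W} (w : f ≫ g = h) {Ω : Type u} [Field Ω]
    {η : Spec (CommRingCat.of Ω) ⟶ W} (v : Lifts g η) (u : Lifts f v.1) : Lifts h η :=
  ⟨u.1, by rw [← w, ← Category.assoc, u.2, v.2]⟩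

theorem liftU_comp (f : X ⟶ Y) (g : Y ⟶ W) (h : X ⟶ W) (w : f ≫ g = h) {Ω : Type u} [Field Ω] [IsSepClosed Ω]
    {η : Spec (CommRingCat.of Ω) ⟶ W} (v : Lifts g η) (u : Lifts f v.1) (U : W.Etale) (z : Fib η U) :
    (Fib.liftU f u (Fib.liftU g v z)).map (bcCompHom f g h w U) = Fib.liftU h (Lifts.comp w v u) z := by
  refine Fib.ext (pullback.hom_ext ?_ ?_)
  · refine (Category.assoc _ _ _).trans ((congrArg (_ ≫ ·) (bcCompHom_fst f g h w U)).trans ?_)
    refine ((Category.assoc _ _ _).symm.trans (congrArg (· ≫ pullback.fst U.hom g) (pullback.lift_fst _ _ _))).trans ?_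
    exact (pullback.lift_fst _ _ _).trans (pullback.lift_fst _ _ _).symm
  · refine (Category.assoc _ _ _).trans ((congrArg (_ ≫ ·) (bcCompHom_snd f g h w U)).trans ?_)
    exact (pullback.lift_snd _ _ _).trans (pullback.lift_snd _ _ _).symm

/-- The composition isomorphism on stalks. -/
theorem back_c (f : X ⟶ Y) (g : Y ⟶ W) (h : X ⟶ W) (w : f ≫ g = h) (G : EtCoh.Ab W) {Ω : Type u} [Field Ω]
    [IsSepClosed Ω] {η : Spec (CommRingCat.of Ω) ⟶ W} (v : Lifts g η) (u : Lifts f v.1)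
    (z : (stk (A := AddCommGrpCat.{u + 1}) u.1).obj ((EtCoh.pull f).obj ((EtCoh.pull g).obj G))) :
    back h η G (Lifts.comp w v u) ((stk (A := AddCommGrpCat.{u + 1}) u.1).map ((etSys.c f g h w).app G) z) =
      back g η G v (back f v.1 ((EtCoh.pull g).obj G) u z) := by
  obtain ⟨U, z', x, hx⟩ := exists_germ (A := AddCommGrpCat.{u + 1}) η (back g η G v (back f v.1 ((EtCoh.pull g).obj G) u z))
  have h1 : back f v.1 ((EtCoh.pull g).obj G) u z =
      germ (A := AddCommGrpCat.{u + 1}) v.1 ((EtCoh.pull g).obj G) _ (Fib.liftU g v z')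
        (((EtCoh.pullPushAdj g).unit.app G).hom.app (op U) x) :=
    injective_back g η G v (hx.symm.trans (back_germ g η G v U z' x).symm)
  have h2 : z = germ (A := AddCommGrpCat.{u + 1}) u.1 ((EtCoh.pull f).obj ((EtCoh.pull g).obj G)) _
      (Fib.liftU f u (Fib.liftU g v z'))
      (((EtCoh.pullPushAdj f).unit.app ((EtCoh.pull g).obj G)).hom.app (op ((EtCoh.bc g).obj U))
        (((EtCoh.pullPushAdj g).unit.app G).hom.app (op U) x)) :=
    injective_back f v.1 _ u (h1.trans (back_germ f v.1 _ u _ (Fib.liftU g v z') _).symm)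
  rw [← hx]
  refine Eq.trans ?_ (back_germ h η G (Lifts.comp w v u) U z' x)
  refine congrArg (back h η G (Lifts.comp w v u)) ?_
  rw [h2]
  refine (germ_natural_apply (A := AddCommGrpCat.{u + 1}) u.1 _ _ _ _).trans ?_
  refine (congrArg _ (unit_c f g h w G U x)).trans ?_
  refine (germ_res_apply (A := AddCommGrpCat.{u + 1}) u.1 _ _ _ _).trans ?_
  rw [liftU_comp f g h w v u U z']
  rfl

theorem mult_iso {Ω : Type u} [Field Ω] [IsAlgClosed Ω] {Z Z' : Scheme.{u}} (h : Z ⟶ Spec (CommRingCat.of Ω))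
    (h' : Z' ⟶ Spec (CommRingCat.of Ω)) [IsFinite h] [IsFinite h'] (e : Z' ⟶ Z) [IsIso e] (w : e ≫ h = h')
    (p : Z') : mult h' p = mult h (e.base p) := by
  haveI := discrete h
  haveI := discrete h'
  have hu : e ⁻¹ᵁ ptOpen h (e.base p) = ptOpen h' p := Opens.ext (Set.ext fun y =>
    ⟨fun hy => (asIso e).hom.homeomorph.injective hy, fun hy => congrArg e.base hy⟩)
  have hpb : IsPullback e h' h (𝟙 _) := IsPullback.of_horiz_isIso ⟨w.trans (Category.comp_id _).symm ▸ rfl⟩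
  haveI : IsIntegral (Spec (CommRingCat.of Ω)) := inferInstance
  haveI : IsClosedImmersion (ptOpen h (e.base p)).ι :=
    ⟨(ptOpen h (e.base p)).ι.isEmbedding, by rw [Scheme.Opens.range_ι]; exact isClosed_discrete _⟩
  haveI : IsFinite ((ptOpen h (e.base p)).ι ≫ h) := inferInstance
  haveI := WeightLib.isFinite_restrict hpb (ptOpen h (e.base p))
  show rk h' (ptOpen h' p) = rk h (ptOpen h (e.base p))
  rw [← hu, ← finrank_ι h' (e ⁻¹ᵁ ptOpen h (e.base p)), ← finrank_ι h (ptOpen h (e.base p))]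
  rw [Scheme.Hom.finrank_of_isPullback _ _ _ _ (WeightLib.isPullback_restrict hpb (ptOpen h (e.base p)))]
  rfl

variable {S X' S' : Scheme.{u}} (f : X ⟶ S) (g : S' ⟶ S) (f' : X' ⟶ S') (g' : X' ⟶ X) (hc : IsPullback g' f' f g)
  [IsFinite f] [IsFinite f'] {Ω : Type u} [Field Ω] [IsSepClosed Ω] [IsAlgClosed Ω]
  (η : Spec (CommRingCat.of Ω) ⟶ S')

/-- Lifts after base change. -/
def bcLift (u : Lifts f' η) : Lifts f (η ≫ g) := ⟨u.1 ≫ g', by rw [Category.assoc, hc.w, ← Category.assoc, u.2]⟩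

theorem bijective_bcLift : Function.Bijective (bcLift f g f' g' hc η) := by
  refine ⟨fun a b e => Subtype.ext (hc.hom_ext (congrArg Subtype.val e) (a.2.trans b.2.symm)), fun u => ?_⟩
  exact ⟨⟨hc.lift u.1 η u.2, hc.lift_snd _ _ _⟩, Subtype.ext (hc.lift_fst _ _ _)⟩

theorem mu_bcLift (u : Lifts f' η) : mu f' η u = mu f (η ≫ g) (bcLift f g f' g' hc η u) := by
  haveI : IsFinite (pullback.snd f (η ≫ g)) := MorphismProperty.pullback_snd _ _ inferInstance
  haveI : IsFinite (pullback.snd f' η) := MorphismProperty.pullback_snd _ _ inferInstance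
  have hp : IsPullback (pullback.fst f' η ≫ g') (pullback.snd f' η) f (η ≫ g) :=
    (IsPullback.of_hasPullback f' η).paste_horiz hc
  have e1 := hp.isoPullback_hom_fst
  have e2 := hp.isoPullback_hom_snd
  show mult (pullback.snd f' η) (ptOf f' η u) = mult (pullback.snd f (η ≫ g)) _
  rw [mult_iso (pullback.snd f (η ≫ g)) (pullback.snd f' η) hp.isoPullback.hom e2 (ptOf f' η u)]
  refine congrArg _ ?_
  show hp.isoPullback.hom.base ((pullback.lift u.1 (𝟙 _) _ : Spec (CommRingCat.of Ω) ⟶ pullback f' η).base default) = _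
  rw [← Scheme.Hom.comp_apply]
  refine congrArg (fun t : Spec (CommRingCat.of Ω) ⟶ pullback f (η ≫ g) => t.base default) (pullback.hom_ext ?_ ?_)
  · rw [Category.assoc, e1, ← Category.assoc, pullback.lift_fst, pullback.lift_fst]
    rfl
  · rw [Category.assoc, e2, pullback.lift_snd, pullback.lift_snd]

variable [Flat f] [LocallyOfFinitePresentation f] [Flat f'] [LocallyOfFinitePresentation f'] (F : EtCoh.Ab S)

theorem back_id_eq {A B : Scheme.{u}} (a : A ⟶ B) (ξ : Spec (CommRingCat.of Ω) ⟶ A) (G : EtCoh.Ab B)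
    (p : (stk (A := AddCommGrpCat.{u + 1}) (ξ ≫ a)).obj G) :
    back a (ξ ≫ a) G ⟨ξ, rfl⟩ ((stalkPull a ξ AddCommGrpCat.{u + 1}).hom.app G p) = p := by
  show ((stalkPull a ξ AddCommGrpCat.{u + 1}).inv.app G ≫ 𝟙 _) _ = p
  rw [Category.comp_id, ← ConcreteCategory.comp_apply, ← NatTrans.comp_app, Iso.hom_inv_id]
  rfl

theorem back_phi (φ : (EtCoh.pull g').obj ((EtCoh.pull f).obj F) ⟶ (EtCoh.pull f').obj ((EtCoh.pull g).obj F))
    (hφ : φ ≫ (etSys.c f' g (f' ≫ g) rfl).app F = (etSys.c g' f (f' ≫ g) hc.w).app F)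
    (u : Lifts f' η) (y : (stk (A := AddCommGrpCat.{u + 1}) u.1).obj ((EtCoh.pull g').obj ((EtCoh.pull f).obj F))) :
    back g (η ≫ g) F ⟨η, rfl⟩ (back f' η ((EtCoh.pull g).obj F) u ((stk (A := AddCommGrpCat.{u + 1}) u.1).map φ y)) =
      back f (η ≫ g) F (bcLift f g f' g' hc η u) (back g' (bcLift f g f' g' hc η u).1 ((EtCoh.pull f).obj F) ⟨u.1, rfl⟩ y) := by
  have k1 := back_c g' f (f' ≫ g) hc.w F (bcLift f g f' g' hc η u) ⟨u.1, rfl⟩ y
  have k2 := back_c f' g (f' ≫ g) rfl F (η := η ≫ g) ⟨η, rfl⟩ u ((stk (A := AddCommGrpCat.{u + 1}) u.1).map φ y)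
  have hstep : (stk (A := AddCommGrpCat.{u + 1}) u.1).map ((etSys.c f' g (f' ≫ g) rfl).app F)
      ((stk (A := AddCommGrpCat.{u + 1}) u.1).map φ y) =
      (stk (A := AddCommGrpCat.{u + 1}) u.1).map ((etSys.c g' f (f' ≫ g) hc.w).app F) y :=
    (ConcreteCategory.comp_apply ((stk (A := AddCommGrpCat.{u + 1}) u.1).map φ) _ y).symm.trans
      (congrArg (fun t : (stk (A := AddCommGrpCat.{u + 1}) u.1).obj ((EtCoh.pull g').obj ((EtCoh.pull f).obj F)) ⟶
        (stk (A := AddCommGrpCat.{u + 1}) u.1).obj ((EtCoh.pull (f' ≫ g)).obj F) => t y)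
        (((stk (A := AddCommGrpCat.{u + 1}) u.1).map_comp _ _).symm.trans
          (congrArg (stk (A := AddCommGrpCat.{u + 1}) u.1).map hφ)))
  exact k2.symm.trans ((congrArg _ hstep).trans k1)

theorem trS_apply (η : Spec (CommRingCat.of Ω) ⟶ S) (G : EtCoh.Ab S) [Fintype (Lifts f η)]
    (p : (stk (A := AddCommGrpCat.{u + 1}) η).obj ((EtCoh.push f).obj ((EtCoh.pull f).obj G))) :
    trS f η G p = ∑ u : Lifts f η, mu f η u • back f η G u (liftGerm f ((EtCoh.pull f).obj G) η u p) := by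
  obtain ⟨U, v, s, rfl⟩ := exists_germ (A := AddCommGrpCat.{u + 1}) η p
  rw [trS_germ]
  exact Finset.sum_congr rfl fun u _ => by rw [liftGerm_germ]

theorem stk_var2 (φ : (EtCoh.pull g').obj ((EtCoh.pull f).obj F) ⟶ (EtCoh.pull f').obj ((EtCoh.pull g).obj F))
    (hφ : φ ≫ (etSys.c f' g (f' ≫ g) rfl).app F = (etSys.c g' f (f' ≫ g) hc.w).app F)
    (p : (stk (A := AddCommGrpCat.{u + 1}) (η ≫ g)).obj ((EtCoh.push f).obj ((EtCoh.pull f).obj F))) :
    back g (η ≫ g) F ⟨η, rfl⟩ (trS f' η ((EtCoh.pull g).obj F)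
      ((stk (A := AddCommGrpCat.{u + 1}) η).map ((EtCoh.push f').map φ)
        ((stk (A := AddCommGrpCat.{u + 1}) η).map (bcHom hc ((EtCoh.pull f).obj F))
          ((stalkPull g η AddCommGrpCat.{u + 1}).hom.app ((EtCoh.push f).obj ((EtCoh.pull f).obj F)) p)))) =
      trS f (η ≫ g) F p := by
  haveI := finite_lifts' f' η
  haveI := finite_lifts' f (η ≫ g)
  letI := Fintype.ofFinite (Lifts f' η)
  letI := Fintype.ofFinite (Lifts f (η ≫ g))
  rw [trS_apply, trS_apply, map_sum]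
  refine (Finset.sum_congr rfl fun u _ => ?_).trans
    ((bijective_bcLift f g f' g' hc η).sum_comp fun u => mu f (η ≫ g) u • back f (η ≫ g) F u
      (liftGerm f ((EtCoh.pull f).obj F) (η ≫ g) u p))
  rw [map_nsmul, mu_bcLift f g f' g' hc η u, liftGerm_natural]
  refine congrArg _ ?_
  refine (congrArg (fun z => back g (η ≫ g) F ⟨η, rfl⟩ (back f' η ((EtCoh.pull g).obj F) u
    ((stk (A := AddCommGrpCat.{u + 1}) u.1).map φ z))) (bcHom_component hc ((EtCoh.pull f).obj F) η u p)).trans ?_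
  refine (back_phi f g f' g' hc η F φ hφ u _).trans ?_
  exact congrArg _ (back_id_eq g' u.1 _ _)

theorem cancel_aux {C : Type*} [Category C] {a b c d : C} (p : a ⟶ b) (q : b ⟶ c) (r : c ⟶ d) (s : d ⟶ c)
    {x : a ⟶ c} {y : d ⟶ c} (h₁ : r ≫ s = 𝟙 c) (h₂ : p ≫ q = x) (h₃ : s = y) : (p ≫ q ≫ r) ≫ y = x := by
  subst h₂ h₃
  rw [Category.assoc, Category.assoc, h₁, Category.comp_id]

theorem pullComp_inv_app {A B C : Scheme.{u}} (a : A ⟶ B) (b : B ⟶ C) (G : EtCoh.Ab C) :
    (EtCore.pullComp a b).inv.app G = (etSys.c a b (a ≫ b) rfl).app G := by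
  refine Eq.trans ?_ (EtSliceLib.pullComp_inv_eq a b (a ≫ b) rfl G)
  have e : EtCore.pullCongr (rfl : a ≫ b = a ≫ b) = Iso.refl _ := eqToIso_refl _
  rw [e, Iso.trans_refl]
  rfl

theorem pullComp_congr_app {A B C : Scheme.{u}} (a : A ⟶ B) (b : B ⟶ C) (c : A ⟶ C) (w : a ≫ b = c) (G : EtCoh.Ab C) :
    (EtCore.pullComp a b).inv.app G ≫ (EtCore.pullCongr w).hom.app G = (etSys.c a b c w).app G :=
  EtSliceLib.pullComp_inv_eq a b c w G

theorem phi_eq :
    ((EtCore.pullComp g' f).inv.app F ≫ (EtCore.pullCongr hc.w).hom.app F ≫ (EtCore.pullComp f' g).hom.app F) ≫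
      (etSys.c f' g (f' ≫ g) rfl).app F = (etSys.c g' f (f' ≫ g) hc.w).app F :=
  cancel_aux _ _ _ ((EtCore.pullComp f' g).inv.app F) ((EtCore.pullComp f' g).hom_inv_id_app F)
    (pullComp_congr_app g' f (f' ≫ g) hc.w F) (pullComp_inv_app f' g F)

theorem var2_aux (φ : (EtCoh.pull g').obj ((EtCoh.pull f).obj F) ⟶ (EtCoh.pull f').obj ((EtCoh.pull g).obj F))
    (hφ : φ ≫ (etSys.c f' g (f' ≫ g) rfl).app F = (etSys.c g' f (f' ≫ g) hc.w).app F) :
    bcHom hc ((EtCoh.pull f).obj F) ≫ (EtCoh.push f').map φ ≫ trApp f' ((EtCoh.pull g).obj F) =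
      (EtCoh.pull g).map (trApp f F) := by
  refine hom_ext_stk _ _ fun Ω _ _ _ η => ?_
  refine AddCommGrpCat.ext fun q => ?_
  obtain ⟨p, rfl⟩ := ((ConcreteCategory.isIso_iff_bijective
    ((stalkPull g η AddCommGrpCat.{u + 1}).hom.app ((EtCoh.push f).obj ((EtCoh.pull f).obj F)))).1 inferInstance).2 q
  apply injective_back g (η ≫ g) F ⟨η, rfl⟩
  rw [Functor.map_comp, Functor.map_comp, stk_trApp, ConcreteCategory.comp_apply, ConcreteCategory.comp_apply]
  refine (stk_var2 f g f' g' hc η F φ hφ p).trans ?_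
  symm
  refine (back_natural g (η ≫ g) _ (trApp f F) ⟨η, rfl⟩ _).trans ?_
  rw [stk_trApp]
  exact congrArg _ (back_id_eq g η _ p)

theorem var2 :
    EtCoh.baseChange0 f g f' g' hc.w ((EtCoh.pull f).obj F) ≫
        (EtCoh.push f').map ((EtCore.pullComp g' f).inv.app F ≫ (EtCore.pullCongr hc.w).hom.app F ≫
          (EtCore.pullComp f' g).hom.app F) ≫ (Tr f').app ((EtCoh.pull g).obj F) =
      (EtCoh.pull g).map ((Tr f).app F) := by
  rw [← bcHom_eq f g f' g' hc]
  exact var2_aux f g f' g' hc F _ (phi_eq f g f' g' hc F)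

end TrFlatLib

end
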