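import Groth.Agent.TrFlatLib.Mult
import Groth.Agent.EtShLib.Trace

/-!
# The trace of a finite flat morphism, locally
-/

set_option autoImplicit false
set_option linter.all false
set_option backward.isDefEq.respectTransparency false
set_option backward.isDefEq.respectTransparency.types false
set_option maxHeartbeats 4000000
set_option synthInstance.maxHeartbeats 400000

universe u

open CategoryTheory CategoryTheory.Limits AlgebraicGeometry Opposite TopologicalSpace
open Groth.Agent Groth.Agent.EtShLib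

noncomputable section

namespace TrFlatLib

variable {X S : Scheme.{u}} (f : X ⟶ S) {Ω : Type u} [Field Ω] [IsSepClosed Ω] (η : Spec (CommRingCat.of Ω) ⟶ S)

/-- The lifts of a geometric point. -/
abbrev Lifts : Type u := {u : Spec (CommRingCat.of Ω) ⟶ X // u ≫ f = η}

/-- The point of the geometric fibre given by a lift. -/
def ptOf (u : Lifts f η) : (pullback f η : Scheme.{u}) :=
  (pullback.lift u.1 (𝟙 _) (u.2.trans (Category.id_comp _).symm) : Spec (CommRingCat.of Ω) ⟶ pullback f η).base default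

/-- The multiplicity of a lift. -/
def mu [IsAlgClosed Ω] [IsFinite f] (u : Lifts f η) : ℕ :=
  haveI : IsFinite (pullback.snd f η) := MorphismProperty.pullback_snd _ _ inferInstance
  mult (pullback.snd f η) (ptOf f η u)

theorem bijective_ptOf [IsAlgClosed Ω] [IsFinite f] : Function.Bijective (ptOf f η) := by
  haveI : IsFinite (pullback.snd f η) := MorphismProperty.pullback_snd _ _ inferInstance
  haveI := discrete (pullback.snd f η)
  refine ⟨fun u u' h => Subtype.ext ?_, fun p => ?_⟩
  · have e := ext_of_apply_closedPoint_eq (pullback.snd f η)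
      (f := pullback.lift u.1 (𝟙 _) (u.2.trans (Category.id_comp _).symm))
      (g := pullback.lift u'.1 (𝟙 _) (u'.2.trans (Category.id_comp _).symm))
      (pullback.lift_snd _ _ _) (pullback.lift_snd _ _ _)
      (by rw [Subsingleton.elim (α := Spec (CommRingCat.of Ω)) (IsLocalRing.closedPoint Ω) default]; exact h)
    have := congrArg (· ≫ pullback.fst f η) e
    simpa only [pullback.lift_fst] using this
  · let q := pointOfClosedPoint (pullback.snd f η) p (isClosed_discrete _)
    have hq : q ≫ pullback.snd f η = 𝟙 _ := pointOfClosedPoint_comp _ _ _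
    refine ⟨⟨q ≫ pullback.fst f η, by rw [Category.assoc, pullback.condition, ← Category.assoc, hq, Category.id_comp]⟩, ?_⟩
    have e : pullback.lift (q ≫ pullback.fst f η) (𝟙 _) (by
        rw [Category.assoc, pullback.condition, ← Category.assoc, hq, Category.id_comp]) = q :=
      pullback.hom_ext (pullback.lift_fst _ _ _) ((pullback.lift_snd _ _ _).trans hq.symm)
    show (pullback.lift (q ≫ pullback.fst f η) (𝟙 _) _ : Spec (CommRingCat.of Ω) ⟶ pullback f η).base default = p
    rw [e]
    exact pointOfClosedPoint_apply _ _ _ _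

theorem finite_lifts' [IsAlgClosed Ω] [IsFinite f] : Finite (Lifts f η) := by
  haveI : IsFinite (pullback.snd f η) := MorphismProperty.pullback_snd _ _ inferInstance
  haveI := finite_space (pullback.snd f η)
  exact Finite.of_injective _ (bijective_ptOf f η).1

variable (F : EtCoh.Ab S)

/-- The identification of the stalk of an inverse image. -/
def back (u : Lifts f η) :
    (stk (A := AddCommGrpCat.{u + 1}) u.1).obj ((EtCoh.pull f).obj F) ⟶ (stk (A := AddCommGrpCat.{u + 1}) η).obj F :=
  (stalkPull f u.1 AddCommGrpCat.{u + 1}).inv.app F ≫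
    eqToHom (congrArg (fun t => (stk (A := AddCommGrpCat.{u + 1}) t).obj F) u.2)

theorem injective_back (u : Lifts f η) : Function.Injective (back f η F u) :=
  ((ConcreteCategory.isIso_iff_bijective (back f η F u)).1 (by unfold back; infer_instance)).1

theorem back_germ (u : Lifts f η) (U : S.Etale) (v : Fib η U) (x : F.obj.obj (op U)) :
    back f η F u (germ (A := AddCommGrpCat.{u + 1}) u.1 ((EtCoh.pull f).obj F) _ (Fib.liftU f u v)
      (((EtCoh.pullPushAdj f).unit.app F).hom.app (op U) x)) = germ (A := AddCommGrpCat.{u + 1}) η F U v x := by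
  obtain ⟨u₀, rfl⟩ := u
  have h := congrArg (fun t : F.obj.obj (op U) ⟶ _ => t x) (germ_stalkPull f u₀ (A := AddCommGrpCat.{u + 1}) F U v)
  simp only [ConcreteCategory.comp_apply] at h
  show ((stalkPull f u₀ AddCommGrpCat.{u + 1}).inv.app F ≫ 𝟙 _) _ = _
  rw [Category.comp_id]
  refine (congrArg _ h.symm).trans ?_
  rw [← ConcreteCategory.comp_apply, ← NatTrans.comp_app, Iso.hom_inv_id]
  rfl

theorem back_natural {G : EtCoh.Ab S} (φ : F ⟶ G) (u : Lifts f η)
    (z : (stk (A := AddCommGrpCat.{u + 1}) u.1).obj ((EtCoh.pull f).obj F)) :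
    back f η G u ((stk (A := AddCommGrpCat.{u + 1}) u.1).map ((EtCoh.pull f).map φ) z) =
      (stk (A := AddCommGrpCat.{u + 1}) η).map φ (back f η F u z) := by
  obtain ⟨u₀, rfl⟩ := u
  show ((stalkPull f u₀ AddCommGrpCat.{u + 1}).inv.app G ≫ 𝟙 _) _ =
    (stk (A := AddCommGrpCat.{u + 1}) (u₀ ≫ f)).map φ (((stalkPull f u₀ AddCommGrpCat.{u + 1}).inv.app F ≫ 𝟙 _) z)
  rw [Category.comp_id, Category.comp_id]
  exact congrArg (fun t : (stk (A := AddCommGrpCat.{u + 1}) u₀).obj ((EtCoh.pull f).obj F) ⟶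
    (stk (A := AddCommGrpCat.{u + 1}) (u₀ ≫ f)).obj G => t z) ((stalkPull f u₀ AddCommGrpCat.{u + 1}).inv.naturality φ)

/-- The weighted sum over the lifts. -/
def trS [IsAlgClosed Ω] [IsFinite f] :
    (stk (A := AddCommGrpCat.{u + 1}) η).obj ((EtCoh.push f).obj ((EtCoh.pull f).obj F)) ⟶
      (stk (A := AddCommGrpCat.{u + 1}) η).obj F :=
  haveI := finite_lifts' f η
  letI := Fintype.ofFinite (Lifts f η)
  ∑ u : Lifts f η, mu f η u • (liftGerm f ((EtCoh.pull f).obj F) η u ≫ back f η F u)

theorem trS_germ [IsAlgClosed Ω] [IsFinite f] [Fintype (Lifts f η)] (U : S.Etale) (v : Fib η U)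
    (s : ((EtCoh.pull f).obj F).obj.obj (op ((EtCoh.bc f).obj U))) :
    trS f η F (germ (A := AddCommGrpCat.{u + 1}) η ((EtCoh.push f).obj ((EtCoh.pull f).obj F)) U v s) =
      ∑ u : Lifts f η, mu f η u • back f η F u
        (germ (A := AddCommGrpCat.{u + 1}) u.1 ((EtCoh.pull f).obj F) _ (Fib.liftU f u v) s) := by
  classical
  have e : ∀ (κ : Type u) (Q : Finset κ) (φ : κ → ((stk (A := AddCommGrpCat.{u + 1}) η).obj
      ((EtCoh.push f).obj ((EtCoh.pull f).obj F)) ⟶ (stk (A := AddCommGrpCat.{u + 1}) η).obj F)) z,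
      (∑ i ∈ Q, φ i) z = ∑ i ∈ Q, φ i z := fun κ Q φ z => by
    induction Q using Finset.induction_on with
    | empty => rfl
    | @insert a Q ha ih => rw [Finset.sum_insert ha, Finset.sum_insert ha, ← ih]; rfl
  rw [trS, e]
  refine Finset.sum_congr (Finset.ext fun u => by simp) fun u _ => ?_
  have e2 : ∀ (n : ℕ) (φ : (stk (A := AddCommGrpCat.{u + 1}) η).obj ((EtCoh.push f).obj ((EtCoh.pull f).obj F)) ⟶
      (stk (A := AddCommGrpCat.{u + 1}) η).obj F) z, (n • φ) z = n • φ z := fun n φ z => rfl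
  rw [e2, ConcreteCategory.comp_apply, liftGerm_germ]

/-- A section is the trace of a section upstairs. -/
def IsTrSec [IsFinite f] (U : S.Etale) (s : ((EtCoh.pull f).obj F).obj.obj (op ((EtCoh.bc f).obj U)))
    (t : F.obj.obj (op U)) : Prop :=
  ∀ (Ω : Type u) [Field Ω] [IsSepClosed Ω] [IsAlgClosed Ω] (η : Spec (CommRingCat.of Ω) ⟶ S) (v : Fib η U),
    germ (A := AddCommGrpCat.{u + 1}) η F U v t =
      trS f η F (germ (A := AddCommGrpCat.{u + 1}) η ((EtCoh.push f).obj ((EtCoh.pull f).obj F)) U v s)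

theorem exists_local [IsFinite f] [Flat f] [LocallyOfFinitePresentation f] (U : S.Etale)
    (s : ((EtCoh.pull f).obj F).obj.obj (op ((EtCoh.bc f).obj U))) (y : U.left) :
    ∃ (W : S.Etale) (g : W ⟶ U) (t : F.obj.obj (op W)), y ∈ Set.range g.left.base ∧
      IsTrSec f F W (((EtCoh.pull f).obj F).obj.map ((EtCoh.bc f).map g).op s) t := by
  classical
  obtain ⟨K, _, _, ζ, z, hz⟩ := exists_geometric (U := U) y
  let A := AlgebraicClosure K
  let e : Spec (CommRingCat.of A) ⟶ Spec (CommRingCat.of K) := Spec.map (CommRingCat.ofHom (algebraMap K A))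
  let η₀ := e ≫ ζ
  let u₀ : Fib η₀ U := Fib.mk (e ≫ z.hom) ((Category.assoc _ _ _).trans (congrArg (e ≫ ·) z.w))
  have hu₀ : u₀.pt = y := by
    rw [← hz]
    show (e ≫ z.hom).base default = z.hom.base default
    rw [Scheme.Hom.comp_apply]
    exact congrArg z.hom.base (Subsingleton.elim _ _)
  haveI := finite_lifts' f η₀
  letI := Fintype.ofFinite (Lifts f η₀)
  let P₀ := (EtCoh.pull f).obj F
  let a : Lifts f η₀ → _ := fun u => back f η₀ F u (germ (A := AddCommGrpCat.{u + 1}) u.1 P₀ _ (Fib.liftU f u u₀) s)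
  have hcommon : ∀ Q : Finset (Lifts f η₀), ∃ (V : S.Etale) (g : V ⟶ U) (v : Fib η₀ V), v.map g = u₀ ∧
      ∀ u ∈ Q, ∃ t : F.obj.obj (op V), germ (A := AddCommGrpCat.{u + 1}) η₀ F V v t = a u := by
    intro Q
    induction Q using Finset.induction_on with
    | empty => exact ⟨U, 𝟙 U, u₀, by simp [Fib.map], by simp⟩
    | @insert b Q hb ih =>
      obtain ⟨V, g, v, hv, hV⟩ := ih
      obtain ⟨W, h, w, x, hw, hx⟩ := exists_germ_below (A := AddCommGrpCat.{u + 1}) η₀ (a b) V v
      refine ⟨W, h ≫ g, w, ?_, fun u hu => ?_⟩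
      · rw [← hv, ← hw]
        exact Fib.ext (Category.assoc _ _ _).symm
      · rcases Finset.mem_insert.1 hu with rfl | hu
        · exact ⟨x, hx⟩
        · obtain ⟨t, ht⟩ := hV u hu
          exact ⟨F.obj.map h.op t, by rw [germ_res_apply, hw, ht]⟩
  obtain ⟨V, g₁, v, hv, hV⟩ := hcommon Finset.univ
  choose t ht using fun u => hV u (Finset.mem_univ u)
  let sV := P₀.obj.map ((EtCoh.bc f).map g₁).op s
  let unit := fun (x : F.obj.obj (op V)) => ((EtCoh.pullPushAdj f).unit.app F).hom.app (op V) x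
  have heq : ∀ u, germ (A := AddCommGrpCat.{u + 1}) u.1 P₀ _ (Fib.liftU f u v) sV =
      germ (A := AddCommGrpCat.{u + 1}) u.1 P₀ _ (Fib.liftU f u v) (unit (t u)) := fun u => by
    apply injective_back f η₀ F u
    rw [back_germ, ht, germ_res_apply, Fib.liftU_map, hv]
  choose N j n hn hjeq using fun u => (germ_eq_iff (A := AddCommGrpCat.{u + 1}) u.1 _ _ _ _).1 (heq u)
  haveI : ∀ u, AlgebraicGeometry.Etale (j u).left := fun u => etale_left (j u)
  let O : Lifts f η₀ → ((EtCoh.bc f).obj V).left.Opens := fun u =>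
    ⟨Set.range (j u).left.base, (j u).left.isOpenMap.isOpen_range⟩
  have hO : ∀ u (Ω' : Type u) [Field Ω'] [IsSepClosed Ω'] (ξ : Spec (CommRingCat.of Ω') ⟶ X)
      (p : Fib ξ ((EtCoh.bc f).obj V)), p.pt ∈ O u →
      germ (A := AddCommGrpCat.{u + 1}) ξ P₀ _ p sV = germ (A := AddCommGrpCat.{u + 1}) ξ P₀ _ p (unit (t u)) := by
    intro u Ω' _ _ ξ p hp
    obtain ⟨w₀, hw₀⟩ := hp
    obtain ⟨l, hl, -⟩ := Scheme.exists_fac_of_etale_of_isSepClosed (j u).left p.hom w₀ hw₀
    let p' : Fib ξ (N u) := Fib.mk l (by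
      rw [← MorphismProperty.Over.w (j u), ← Category.assoc, hl]
      exact p.w)
    have hp' : p'.map (j u) = p := Fib.ext hl
    rw [← hp', ← germ_res_apply, ← germ_res_apply, hjeq]
  let π := EtShriek.prV f V
  haveI : IsFinite π := MorphismProperty.pullback_fst _ _ ‹_›
  haveI : Flat π := MorphismProperty.pullback_fst _ _ ‹_›
  haveI : LocallyOfFinitePresentation π := MorphismProperty.pullback_fst _ _ ‹_›
  obtain ⟨V', g, hg, v', hv', m, piece, hfin, hsingle, hinj, hcov⟩ :=
    WeightLib.exists_split π v.pt (π.base ⁻¹' {v.pt}) (π.finite_preimage_singleton v.pt)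
  haveI := hg
  obtain ⟨w, hw⟩ := exists_fib v.hom (MorphismProperty.Over.mk ⊤ g hg : V.left.Etale) v' hv'
  have hwg : w.hom ≫ g = v.hom := w.w
  let P := pullback π g
  let π₂ : P ⟶ V' := pullback.snd π g
  haveI : IsFinite π₂ := MorphismProperty.pullback_snd _ _ inferInstance
  haveI : Flat π₂ := MorphismProperty.pullback_snd _ _ inferInstance
  haveI : LocallyOfFinitePresentation π₂ := MorphismProperty.pullback_snd _ _ inferInstance
  let p₀ : Lifts f η₀ → (Spec (CommRingCat.of A) ⟶ P) := fun u =>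
    pullback.lift (Fib.liftU f u v).hom w.hom ((pullback.lift_fst _ _ _).trans hwg.symm)
  let T : Fin m → F.obj.obj (op V) := fun k =>
    if h : ∃ u, (p₀ u).base default ∈ piece k then t h.choose else 0
  let Ok : Fin m → ((EtCoh.bc f).obj V).left.Opens := fun k =>
    if h : ∃ u, (p₀ u).base default ∈ piece k then O h.choose else ⊥
  have hcl : ∀ k, IsClosed (piece k : Set P) := fun k => by
    haveI := hfin k
    haveI : IsFinite (piece k).ι := IsFinite.of_comp _ π₂
    have hh := (piece k).ι.isClosedMap.isClosed_range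
    rwa [Scheme.Opens.range_ι] at hh
  have hbad1 : ∀ k, v' ∉ π₂.base '' ((piece k : Set P) ∩ ((pullback.fst π g ⁻¹ᵁ Ok k : P.Opens) : Set P)ᶜ) := by
    rintro k ⟨p, ⟨hpk, hpO⟩, hpv⟩
    obtain ⟨q, hq⟩ := WeightLib.exists_gpt π₂ p w.hom
      ((hpv.trans hw.symm).trans (congrArg w.hom.base (Subsingleton.elim _ _)))
    let r := q.1 ≫ pullback.fst π g
    have hr : r ≫ π = v.hom := by
      rw [Category.assoc, pullback.condition, ← Category.assoc, q.2, hwg]
    have hru : (r ≫ pullback.snd V.hom f) ≫ f = η₀ := by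
      rw [Category.assoc, ← pullback.condition, ← Category.assoc]
      exact (congrArg (· ≫ V.hom) hr).trans v.w
    let u : Lifts f η₀ := ⟨_, hru⟩
    have hqu : q.1 = p₀ u := pullback.hom_ext (((pullback.lift_fst _ _ _).trans (pullback.hom_ext
      ((pullback.lift_fst _ _ _).trans hr.symm) (pullback.lift_snd _ _ _))).symm)
      (q.2.trans (pullback.lift_snd _ _ _).symm)
    have hpu : (p₀ u).base default = p := by
      rw [← hqu, ← hq]
      exact congrArg q.1.base (Subsingleton.elim _ _)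
    have hex : ∃ u, (p₀ u).base default ∈ piece k := ⟨u, hpu ▸ hpk⟩
    have hsame : p₀ hex.choose = p₀ u := by
      haveI := hsingle k A w.hom ((congrArg w.hom.base (Subsingleton.elim _ _)).trans hw)
      have hl : ∀ u', (p₀ u').base default ∈ piece k → Set.range (p₀ u').base ⊆ Set.range (piece k).ι.base :=
        fun u' hu' => by
          rintro _ ⟨b, rfl⟩
          rw [Scheme.Opens.range_ι, Subsingleton.elim b default]
          exact hu'
      have := congrArg (fun z : WeightLib.GPts ((piece k).ι ≫ π₂) w.hom => z.1 ≫ (piece k).ι) (Subsingleton.elim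
        (⟨IsOpenImmersion.lift _ _ (hl _ hex.choose_spec), by
          rw [IsOpenImmersion.lift_fac_assoc]; exact pullback.lift_snd _ _ _⟩ : WeightLib.GPts ((piece k).ι ≫ π₂) w.hom)
        ⟨IsOpenImmersion.lift _ _ (hl u (hpu ▸ hpk)), by
          rw [IsOpenImmersion.lift_fac_assoc]; exact pullback.lift_snd _ _ _⟩)
      simpa only [IsOpenImmersion.lift_fac] using this
    refine hpO ?_
    show (pullback.fst π g).base p ∈ Ok k
    rw [← hpu, ← hsame, ← Scheme.Hom.comp_apply, pullback.lift_fst, show Ok k = O hex.choose from dif_pos hex]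
    exact ⟨(n hex.choose).pt, congrArg (fun z : Fib hex.choose.1 ((EtCoh.bc f).obj V) => z.pt) (hn hex.choose)⟩
  let rkAt : Fin m → V' → ℕ := fun k x => ((piece k).ι ≫ π₂).finrank x
  have hlc : ∀ k, IsOpen {x | rkAt k x = rkAt k v'} := fun k => by
    haveI := hfin k
    exact (((piece k).ι ≫ π₂).isLocallyConstant_finrank).isOpen_fiber _
  let Good : Set V' := (⋂ k, ({x | rkAt k x = rkAt k v'} ∩
      (π₂.base '' ((piece k : Set P) ∩ ((pullback.fst π g ⁻¹ᵁ Ok k : P.Opens) : Set P)ᶜ))ᶜ)) ∩
    ((π₂.base '' (⋃ k, (piece k : Set P))ᶜ)ᶜ ∩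
      ⋂ (kl : {kl : Fin m × Fin m // kl.1 ≠ kl.2}), (π₂.base '' ((piece kl.1.1 : Set P) ∩ piece kl.1.2))ᶜ)
  have hGood : IsOpen Good := by
    refine (isOpen_iInter_of_finite fun k => (hlc k).inter (π₂.isClosedMap _ ((hcl k).inter
      (pullback.fst π g ⁻¹ᵁ Ok k).isOpen.isClosed_compl)).isOpen_compl).inter
      ((π₂.isClosedMap _ (isOpen_iUnion fun k => (piece k).isOpen).isClosed_compl).isOpen_compl.inter
        (isOpen_iInter_of_finite fun kl => (π₂.isClosedMap _ ((hcl _).inter (hcl _))).isOpen_compl))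
  have hvGood : v' ∈ Good := by
    refine ⟨Set.mem_iInter.2 fun k => ⟨rfl, hbad1 k⟩, ?_, Set.mem_iInter.2 fun kl => ?_⟩
    · rintro ⟨p, hp, hpv⟩
      obtain ⟨k, hk⟩ := hcov p hpv (by
        show π.base ((pullback.fst π g).base p) = v.pt
        rw [← Scheme.Hom.comp_apply, pullback.condition, Scheme.Hom.comp_apply]
        exact (congrArg g.base hpv).trans hv')
      exact hp (Set.mem_iUnion.2 ⟨k, hk⟩)
    · rintro ⟨p, ⟨h1, h2⟩, hpv⟩
      exact kl.2 (hinj p _ _ hpv h1 h2)
  let G : V'.Opens := ⟨Good, hGood⟩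
  haveI : AlgebraicGeometry.Etale V.hom := V.prop
  let W : S.Etale := MorphismProperty.Over.mk ⊤ (G.ι ≫ g ≫ V.hom)
    (inferInstance : AlgebraicGeometry.Etale (G.ι ≫ g ≫ V.hom))
  let gW : W ⟶ V := MorphismProperty.Over.homMk (G.ι ≫ g) (Category.assoc _ _ _)
  refine ⟨W, gW ≫ g₁, ∑ k, rkAt k v' • F.obj.map gW.op (T k), ⟨⟨v', hvGood⟩, ?_⟩, fun Ω' _ _ _ η z => ?_⟩
  · show g₁.left.base ((G.ι ≫ g).base ⟨v', hvGood⟩) = y
    rw [Scheme.Hom.comp_apply, ← hu₀, ← hv]
    show g₁.left.base (g.base v') = (v.hom ≫ g₁.left).base default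
    rw [Scheme.Hom.comp_apply, hv']
  haveI := finite_lifts' f η
  letI := Fintype.ofFinite (Lifts f η)
  haveI : IsFinite (pullback.snd f η) := MorphismProperty.pullback_snd _ _ inferInstance
  haveI : Finite (pullback f η : Scheme.{u}) := finite_space (pullback.snd f η)
  letI := Fintype.ofFinite (pullback f η : Scheme.{u})
  let x : Spec (CommRingCat.of Ω') ⟶ V' := z.hom ≫ G.ι
  have hxG : x.base default ∈ Good := by
    show (z.hom ≫ G.ι).base default ∈ Good
    rw [Scheme.Hom.comp_apply]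
    exact (z.hom.base default).2
  let zV : Fib η V := z.map gW
  have hzV : zV.hom = x ≫ g := (Category.assoc _ _ _).symm
  let mZ₁ : pullback f η ⟶ ((EtCoh.bc f).obj V).left :=
    pullback.lift (pullback.snd f η ≫ zV.hom) (pullback.fst f η) (by
      rw [Category.assoc]
      exact (congrArg (pullback.snd f η ≫ ·) zV.w).trans pullback.condition.symm)
  let mZ : pullback f η ⟶ P := pullback.lift mZ₁ (pullback.snd f η ≫ x) (by
    show mZ₁ ≫ pullback.fst V.hom f = _
    rw [pullback.lift_fst, Category.assoc, hzV])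
  have h0 : IsPullback (pullback.fst f η) (pullback.snd f η) f η := IsPullback.of_hasPullback f η
  have h1 : IsPullback mZ₁ (pullback.snd f η) π zV.hom := by
    refine IsPullback.of_right ?_ (pullback.lift_fst _ _ _) (IsPullback.of_hasPullback V.hom f).flip
    have e1 : mZ₁ ≫ pullback.snd V.hom f = pullback.fst f η := pullback.lift_snd _ _ _
    rw [e1, zV.w]
    exact h0
  have h2 : IsPullback mZ (pullback.snd f η) π₂ x := by
    refine IsPullback.of_right ?_ (pullback.lift_snd _ _ _) (IsPullback.of_hasPullback π g)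
    rw [pullback.lift_fst, ← hzV]
    exact h1
  let hZ := pullback.snd f η
  let U' : Fin m → (pullback f η).Opens := fun k => mZ ⁻¹ᵁ piece k
  have hrk : ∀ k, rk hZ (U' k) = rkAt k v' := fun k => by
    haveI := hfin k
    haveI := WeightLib.isFinite_restrict h2 (piece k)
    rw [← finrank_ι hZ (U' k)]
    rw [Scheme.Hom.finrank_of_isPullback _ _ _ _ (WeightLib.isPullback_restrict h2 (piece k))]
    exact ((Set.mem_iInter.1 hxG.1 k).1)
  have hpart : ∀ p : (pullback f η : Scheme.{u}), ∃! k, p ∈ U' k := fun p => by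
    have hp : π₂.base (mZ.base p) = x.base default := by
      rw [← Scheme.Hom.comp_apply, h2.w, Scheme.Hom.comp_apply]
      exact congrArg x.base (Subsingleton.elim _ _)
    obtain ⟨k, hk⟩ : ∃ k, mZ.base p ∈ piece k := by
      by_contra hne
      exact hxG.2.1 ⟨mZ.base p, fun h => hne (Set.mem_iUnion.1 h), hp⟩
    refine ⟨k, hk, fun l hl => ?_⟩
    by_contra hne
    exact Set.mem_iInter.1 hxG.2.2 ⟨(l, k), hne⟩ ⟨mZ.base p, ⟨hl, hk⟩, hp⟩
  choose κ hκ hκu using hpart
  rw [trS_germ, map_sum]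
  have hterm : ∀ u, back f η F u (germ (A := AddCommGrpCat.{u + 1}) u.1 P₀ _ (Fib.liftU f u z)
      (P₀.obj.map ((EtCoh.bc f).map (gW ≫ g₁)).op s)) =
      germ (A := AddCommGrpCat.{u + 1}) η F V zV (T (κ (ptOf f η u))) := fun u => by
    have e : P₀.obj.map ((EtCoh.bc f).map (gW ≫ g₁)).op s = P₀.obj.map ((EtCoh.bc f).map gW).op sV := by
      rw [Functor.map_comp, op_comp, Functor.map_comp]
      rfl
    rw [e, germ_res_apply, Fib.liftU_map]
    let k := κ (ptOf f η u)
    have hq : (pullback.fst π g).base (mZ.base (ptOf f η u)) = (Fib.liftU f u zV).pt := by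
      rw [← Scheme.Hom.comp_apply, pullback.lift_fst]
      show mZ₁.base ((pullback.lift u.1 (𝟙 _) _ : Spec (CommRingCat.of Ω') ⟶ pullback f η).base default) = _
      rw [← Scheme.Hom.comp_apply]
      refine congrArg (fun t : Spec (CommRingCat.of Ω') ⟶ pullback V.hom f => t.base default) (pullback.hom_ext ?_ ?_)
      · rw [Category.assoc]
        exact (congrArg (_ ≫ ·) (pullback.lift_fst _ _ _)).trans ((pullback.lift_snd_assoc _ _ _ _).trans
          ((Category.id_comp _).trans (pullback.lift_fst _ _ _).symm))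
      · rw [Category.assoc]
        exact (congrArg (_ ≫ ·) (pullback.lift_snd _ _ _)).trans
          ((pullback.lift_fst _ _ _).trans (pullback.lift_snd _ _ _).symm)
    have hmem : (Fib.liftU f u zV).pt ∈ Ok k := by
      by_contra hne
      refine (Set.mem_iInter.1 hxG.1 k).2 ⟨mZ.base (ptOf f η u), ⟨hκ _, fun h => hne ?_⟩, ?_⟩
      · rw [← hq]; exact h
      · rw [← Scheme.Hom.comp_apply, h2.w, Scheme.Hom.comp_apply]
        exact congrArg x.base (Subsingleton.elim _ _)
    have hex : ∃ u', (p₀ u').base default ∈ piece k := by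
      by_contra hne
      rw [show Ok k = ⊥ from dif_neg hne] at hmem
      exact hmem
    rw [show Ok k = O hex.choose from dif_pos hex] at hmem
    rw [hO _ Ω' u.1 _ hmem, back_germ, show T k = t hex.choose from dif_pos hex]
  rw [Finset.sum_congr rfl fun u _ => congrArg (mu f η u • ·) (hterm u)]
  rw [show (∑ u : Lifts f η, mu f η u • germ (A := AddCommGrpCat.{u + 1}) η F V zV (T (κ (ptOf f η u)))) =
      ∑ p : (pullback f η : Scheme.{u}), mult hZ p • germ (A := AddCommGrpCat.{u + 1}) η F V zV (T (κ p)) from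
    (bijective_ptOf f η).sum_comp (fun p => mult hZ p • germ (A := AddCommGrpCat.{u + 1}) η F V zV (T (κ p)))]
  rw [← Finset.sum_fiberwise Finset.univ κ]
  refine Finset.sum_congr rfl fun k _ => ?_
  rw [map_nsmul, germ_res_apply, ← hrk, rk_eq_sum, Finset.sum_smul]
  refine Finset.sum_congr (Finset.ext fun p => ?_) fun p hp => ?_
  · simp only [Finset.mem_filter, Finset.mem_univ, true_and]
    exact ⟨fun h => (hκu p k h).symm, fun h => h ▸ hκ p⟩
  · rw [(Finset.mem_filter.1 hp).2]

end TrFlatLib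

end
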