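import Groth.Agent.EtShLib.LqfStalk
import Mathlib.AlgebraicGeometry.Morphisms.FlatRank
import Mathlib.AlgebraicGeometry.AlgClosed.Basic

/-!
# Multiplicities of the points of a finite scheme over a field
-/

set_option autoImplicit false
set_option linter.all false
set_option backward.isDefEq.respectTransparency false
set_option backward.isDefEq.respectTransparency.types false
set_option maxHeartbeats 2000000
set_option synthInstance.maxHeartbeats 400000

universe u

open CategoryTheory CategoryTheory.Limits AlgebraicGeometry Opposite TopologicalSpace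

noncomputable section

namespace TrFlatLib

variable {Ω : Type u} [Field Ω] {Z : Scheme.{u}} (h : Z ⟶ Spec (CommRingCat.of Ω))

/-- The algebra structure of the functions on an open. -/
def str (W : Z.Opens) : Ω →+* Γ(Z, W) :=
  ((Scheme.ΓSpecIso (CommRingCat.of Ω)).inv ≫ h.appTop ≫ Z.presheaf.map (homOfLE le_top).op).hom

/-- The dimension of the functions on an open. -/
def rk (W : Z.Opens) : ℕ :=
  letI := (str h W).toAlgebra
  Module.finrank Ω Γ(Z, W)

theorem finrank_eq {Z' : Scheme.{u}} (g : Z' ⟶ Spec (CommRingCat.of Ω)) [IsFinite g] :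
    letI := ((Scheme.ΓSpecIso (CommRingCat.of Ω)).inv ≫ g.appTop).hom.toAlgebra
    g.finrank default = Module.finrank Ω Γ(Z', ⊤) := by
  letI := ((Scheme.ΓSpecIso (CommRingCat.of Ω)).inv ≫ g.appTop).hom.toAlgebra
  haveI : IsAffine Z' := isAffine_of_isAffineHom g
  haveI : IsIntegral (Spec (CommRingCat.of Ω)) := inferInstance
  have hg : g = Z'.isoSpec.hom ≫ Spec.map (CommRingCat.ofHom (algebraMap Ω Γ(Z', ⊤))) := by
    show g = Z'.toSpecΓ ≫ Spec.map ((Scheme.ΓSpecIso (CommRingCat.of Ω)).inv ≫ g.appTop)
    rw [Spec.map_comp, ← Category.assoc, ← Scheme.toSpecΓ_naturality, Category.assoc,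
      toSpecΓ_SpecMap_ΓSpecIso_inv, Category.comp_id]
  haveI : IsFinite (Spec.map (CommRingCat.ofHom (algebraMap Ω Γ(Z', ⊤)))) := by
    rw [← MorphismProperty.cancel_left_of_respectsIso @IsFinite Z'.isoSpec.hom, ← hg]
    infer_instance
  haveI : Module.Finite Ω Γ(Z', ⊤) := RingHom.finite_algebraMap.1 ((IsFinite.SpecMap_iff _).1 ‹_›)
  conv_lhs => rw [hg, Scheme.Hom.finrank_comp_left_of_isIso]
  rw [Scheme.Hom.finrank_SpecMap_algebraMap, Module.rankAtStalk_eq_finrank_of_free, Pi.natCast_def]
  rfl

theorem finrank_ι (W : Z.Opens) [IsFinite (W.ι ≫ h)] : (W.ι ≫ h).finrank default = rk h W := by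
  rw [finrank_eq]
  letI := ((Scheme.ΓSpecIso (CommRingCat.of Ω)).inv ≫ (W.ι ≫ h).appTop).hom.toAlgebra
  letI := (str h W).toAlgebra
  refine LinearEquiv.finrank_eq (f := ?_)
  refine { W.topIso.commRingCatIsoToRingEquiv.toAddEquiv with map_smul' := fun r x => ?_ }
  show W.topIso.hom (algebraMap Ω _ r * x) = algebraMap Ω _ r * W.topIso.hom x
  rw [map_mul]
  congr 1
  show (((Scheme.ΓSpecIso (CommRingCat.of Ω)).inv ≫ (W.ι ≫ h).appTop) ≫ W.topIso.hom) r = str h W r
  have e : (W.ι ≫ h).appTop ≫ W.topIso.hom = h.appTop ≫ Z.presheaf.map (homOfLE le_top).op := by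
    simp [Scheme.Opens.ι_appTop, Scheme.Opens.topIso, ← Functor.map_comp]
  rw [Category.assoc, e]
  rfl

theorem rk_bot : rk h ⊥ = 0 := by
  letI := (str h ⊥).toAlgebra
  exact Module.finrank_zero_of_subsingleton

theorem moduleFinite (W : Z.Opens) [IsFinite (W.ι ≫ h)] :
    letI := (str h W).toAlgebra
    Module.Finite Ω Γ(Z, W) := by
  letI := (str h W).toAlgebra
  letI := ((Scheme.ΓSpecIso (CommRingCat.of Ω)).inv ≫ (W.ι ≫ h).appTop).hom.toAlgebra
  haveI : IsAffine (W : Scheme.{u}) := isAffine_of_isAffineHom (W.ι ≫ h)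
  haveI : Module.Finite Ω Γ((W : Scheme.{u}), ⊤) :=
    RingHom.finite_algebraMap.1 ((RingHom.Finite.comp (W.ι ≫ h).finite_appTop
      (RingHom.Finite.of_surjective _
        (ConcreteCategory.bijective_of_isIso (Scheme.ΓSpecIso (CommRingCat.of Ω)).inv).2)))
  have e : ∀ r : Ω, W.topIso.hom (algebraMap Ω Γ((W : Scheme.{u}), ⊤) r) = str h W r := fun r => by
    show (((Scheme.ΓSpecIso (CommRingCat.of Ω)).inv ≫ (W.ι ≫ h).appTop) ≫ W.topIso.hom) r = _
    have e : (W.ι ≫ h).appTop ≫ W.topIso.hom = h.appTop ≫ Z.presheaf.map (homOfLE le_top).op := by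
      simp [Scheme.Opens.ι_appTop, Scheme.Opens.topIso, ← Functor.map_comp]
    rw [Category.assoc, e]
    rfl
  let l : Γ((W : Scheme.{u}), ⊤) →ₗ[Ω] Γ(Z, W) :=
    { toFun := W.topIso.hom, map_add' := map_add _, map_smul' := fun r x => by
        show W.topIso.hom (algebraMap Ω _ r * x) = str h W r * W.topIso.hom x
        rw [map_mul, e] }
  exact Module.Finite.of_surjective l (ConcreteCategory.bijective_of_isIso W.topIso.hom).2

theorem rk_sup (U V : Z.Opens) (hUV : U ⊓ V = ⊥) [IsFinite (U.ι ≫ h)] [IsFinite (V.ι ≫ h)] :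
    rk h (U ⊔ V) = rk h U + rk h V := by
  letI := (str h U).toAlgebra
  letI := (str h V).toAlgebra
  letI := (str h (U ⊔ V)).toAlgebra
  haveI := moduleFinite h U
  haveI := moduleFinite h V
  let rU := (Z.presheaf.map (homOfLE (le_sup_left : U ≤ U ⊔ V)).op).hom
  let rV := (Z.presheaf.map (homOfLE (le_sup_right : V ≤ U ⊔ V)).op).hom
  have eU : ∀ r, rU (str h (U ⊔ V) r) = str h U r := fun r => by
    simp only [str, rU, ← ConcreteCategory.comp_apply, ← CommRingCat.comp_apply, Category.assoc, ← Functor.map_comp]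
    rfl
  have eV : ∀ r, rV (str h (U ⊔ V) r) = str h V r := fun r => by
    simp only [str, rV, ← ConcreteCategory.comp_apply, ← CommRingCat.comp_apply, Category.assoc, ← Functor.map_comp]
    rfl
  let l : Γ(Z, U ⊔ V) →ₗ[Ω] Γ(Z, U) × Γ(Z, V) :=
    { toFun := fun x => (rU x, rV x), map_add' := fun x y => by simp [map_add],
      map_smul' := fun r x => by
        refine Prod.ext ?_ ?_
        · show rU (str h _ r * x) = str h U r * rU x
          rw [map_mul, eU]
        · show rV (str h _ r * x) = str h V r * rV x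
          rw [map_mul, eV] }
  show Module.finrank Ω Γ(Z, U ⊔ V) = _
  rw [(LinearEquiv.ofBijective l ?_).finrank_eq, Module.finrank_prod]
  · rfl
  constructor
  · intro x y hxy
    exact TopCat.Sheaf.eq_of_locally_eq₂ Z.sheaf (homOfLE le_sup_left) (homOfLE le_sup_right) le_rfl x y
      (congrArg Prod.fst hxy) (congrArg Prod.snd hxy)
  · rintro ⟨a, b⟩
    obtain ⟨x, hx, -⟩ := TopCat.Sheaf.existsUnique_gluing' Z.sheaf (fun i : Bool => cond i U V) (U ⊔ V)
      (fun i => homOfLE (by cases i <;> simp)) (by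
        refine sup_le ?_ ?_
        · exact le_iSup (fun i : Bool => cond i U V) true
        · exact le_iSup (fun i : Bool => cond i U V) false)
      (fun i => match i with | true => a | false => b) (by
        intro i j
        cases i <;> cases j
        · rfl
        · haveI : Subsingleton Γ(Z, V ⊓ U) := by
            rw [inf_comm, hUV]; infer_instance
          exact Subsingleton.elim (α := Γ(Z, V ⊓ U)) _ _
        · haveI : Subsingleton Γ(Z, U ⊓ V) := by
            rw [hUV]; infer_instance
          exact Subsingleton.elim (α := Γ(Z, U ⊓ V)) _ _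
        · rfl)
    exact ⟨x, Prod.ext (hx true) (hx false)⟩

theorem rk_finset {κ : Type*} (s : Finset κ) (W : κ → Z.Opens) (hd : Pairwise fun a b => W a ⊓ W b = ⊥)
    [IsFinite h] (hc : ∀ a, IsClosed (W a : Set Z)) : rk h (s.sup W) = ∑ a ∈ s, rk h (W a) := by
  classical
  have hfin : ∀ U : Z.Opens, IsClosed (U : Set Z) → IsFinite (U.ι ≫ h) := fun U hU => by
    haveI : IsClosedImmersion U.ι := ⟨U.ι.isEmbedding, by rwa [Scheme.Opens.range_ι]⟩
    infer_instance
  induction s using Finset.induction_on with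
  | empty => rw [Finset.sup_empty, Finset.sum_empty]; exact rk_bot h
  | @insert a s ha ih =>
    have hcs : IsClosed ((s.sup W : Z.Opens) : Set Z) := by
      clear ih ha
      induction s using Finset.induction_on with
      | empty => simp
      | @insert b s hb ih => rw [Finset.sup_insert, Opens.coe_sup]; exact (hc b).union ih
    haveI := hfin _ (hc a)
    haveI := hfin _ hcs
    rw [Finset.sup_insert, rk_sup h, ih, Finset.sum_insert ha]
    rw [Finset.sup_inf_distrib_left]
    exact Finset.sup_eq_bot_iff _ _ |>.2 fun b hb => hd fun e => ha (e ▸ hb)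

section Points

variable [IsAlgClosed Ω] [IsFinite h]

include h in
theorem discrete : DiscreteTopology Z := by
  rw [← isDiscrete_univ_iff]
  have e : h.base ⁻¹' {default} = Set.univ :=
    Set.eq_univ_of_forall fun y => Subsingleton.elim (α := Spec (CommRingCat.of Ω)) _ _
  rw [← e]
  exact h.isDiscrete_preimage_singleton default

/-- The open subscheme at a point. -/
def ptOpen (p : Z) : Z.Opens :=
  haveI := discrete h
  ⟨{p}, isOpen_discrete _⟩

/-- The multiplicity of a point. -/
def mult (p : Z) : ℕ := rk h (ptOpen h p)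

include h in
theorem finite_space : Finite Z := by
  rw [← Set.finite_univ_iff]
  exact (h.finite_preimage_singleton default).subset fun y _ => Subsingleton.elim (α := Spec (CommRingCat.of Ω)) _ _

theorem rk_eq_sum [Fintype Z] (U : Z.Opens) [DecidablePred (· ∈ U)] :
    rk h U = ∑ p ∈ Finset.univ.filter (· ∈ U), mult h p := by
  classical
  haveI := discrete h
  have e : U = (Finset.univ.filter (· ∈ U)).sup (ptOpen h) := by
    refine le_antisymm (fun x hx => ?_) (Finset.sup_le fun x hx => ?_)
    · exact Finset.le_sup (f := ptOpen h) (Finset.mem_filter.2 ⟨Finset.mem_univ x, hx⟩) (rfl : x ∈ ({x} : Set Z))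
    · rintro y (rfl : y = x)
      exact (Finset.mem_filter.1 hx).2
  conv_lhs => rw [e]
  refine rk_finset h _ _ (fun a b hab => ?_) fun a => isClosed_discrete _
  refine Opens.ext (Set.eq_empty_of_forall_notMem fun x hx => hab ?_)
  exact (hx.1 : x = a).symm.trans hx.2

end Points

end TrFlatLib

end
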